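import Groth.Prelude.Def_W4c5cptfessfintypeLocImm
import Mathlib.RingTheory.RingHom.EssFiniteType
import Mathlib.RingTheory.Localization.BaseChange
import Mathlib.Algebra.Category.Ring.Constructions
import Mathlib.RingTheory.Localization.AtPrime.Basic
import Mathlib.RingTheory.Localization.Away.Basic
import Mathlib.RingTheory.Noetherian.Basic

/-!
# Localizing ring maps
-/

universe u

open CategoryTheory

namespace Groth.Agent.LocImmLib

section
variable {A B C : Type*} [CommRing A] [CommRing B] [CommRing C]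

/-- Elementwise description of localizing maps. -/
theorem isLocHom_iff (φ : A →+* B) : LocImm.IsLocHom φ ↔
    (∀ z : B, ∃ a s : A, IsUnit (φ s) ∧ z * φ s = φ a) ∧
    (∀ a b : A, φ a = φ b → ∃ s : A, IsUnit (φ s) ∧ s * a = s * b) := by
  letI := φ.toAlgebra
  constructor
  · rintro ⟨S, hS⟩
    refine ⟨fun z => ?_, fun a b h => ?_⟩
    · obtain ⟨⟨a, s⟩, e⟩ := IsLocalization.surj S z
      exact ⟨a, s, IsLocalization.map_units B s, e⟩
    · obtain ⟨s, e⟩ := (IsLocalization.eq_iff_exists S B).1 h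
      exact ⟨s, IsLocalization.map_units B s, e⟩
  · rintro ⟨h1, h2⟩
    refine ⟨(IsUnit.submonoid B).comap φ, ⟨fun y => y.2, fun z => ?_, fun {a b} h => ?_⟩⟩
    · obtain ⟨a, s, hs, e⟩ := h1 z
      exact ⟨⟨a, ⟨s, hs⟩⟩, e⟩
    · obtain ⟨s, hs, e⟩ := h2 a b h
      exact ⟨⟨s, hs⟩, e⟩

theorem isLocHom_id : LocImm.IsLocHom (RingHom.id A) :=
  (isLocHom_iff _).2 ⟨fun z => ⟨z, 1, by simp, by simp⟩, fun a b h => ⟨1, by simp, by simp_all⟩⟩

theorem isLocHom_equiv (e : A ≃+* B) : LocImm.IsLocHom e.toRingHom :=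
  (isLocHom_iff _).2 ⟨fun z => ⟨e.symm z, 1, by simp, by simp⟩,
    fun a b h => ⟨1, by simp, by simpa using e.injective h⟩⟩

theorem isLocHom_comp {φ : A →+* B} {ψ : B →+* C} (hφ : LocImm.IsLocHom φ) (hψ : LocImm.IsLocHom ψ) :
    LocImm.IsLocHom (ψ.comp φ) := by
  obtain ⟨s1, e1⟩ := (isLocHom_iff _).1 hφ
  obtain ⟨s2, e2⟩ := (isLocHom_iff _).1 hψ
  refine (isLocHom_iff _).2 ⟨fun z => ?_, fun a b h => ?_⟩
  · obtain ⟨b, t, ht, ez⟩ := s2 z
    obtain ⟨a, s, hs, eb⟩ := s1 b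
    obtain ⟨t', s', hs', et⟩ := s1 t
    have ht' : IsUnit (ψ (φ t')) := by rw [← et, map_mul]; exact ht.mul (hs'.map ψ)
    refine ⟨a * s', t' * s, ?_, ?_⟩
    · rw [RingHom.comp_apply, map_mul, map_mul]; exact ht'.mul (hs.map ψ)
    · simp only [RingHom.comp_apply, map_mul]
      rw [← eb, ← et]
      simp only [map_mul]
      linear_combination (ψ (φ s') * ψ (φ s)) * ez
  · obtain ⟨t, ht, et⟩ := e2 _ _ h
    obtain ⟨t', s', hs', et'⟩ := s1 t
    have ht' : IsUnit (ψ (φ t')) := by rw [← et', map_mul]; exact ht.mul (hs'.map ψ)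
    obtain ⟨r, hr, er⟩ := e1 (t' * a) (t' * b) (by
      simp only [map_mul, ← et']; linear_combination (φ s') * et)
    exact ⟨r * t', by rw [RingHom.comp_apply, map_mul, map_mul]; exact (hr.map ψ).mul ht',
      by rw [mul_assoc, er, mul_assoc]⟩

theorem isLocHom_of_comp {φ : A →+* B} {ψ : B →+* C} (hφ : LocImm.IsLocHom φ)
    (h : LocImm.IsLocHom (ψ.comp φ)) : LocImm.IsLocHom ψ := by
  obtain ⟨s1, -⟩ := (isLocHom_iff _).1 hφ
  obtain ⟨s2, e2⟩ := (isLocHom_iff _).1 h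
  refine (isLocHom_iff _).2 ⟨fun z => ?_, fun a b hab => ?_⟩
  · obtain ⟨a, s, hs, e⟩ := s2 z
    exact ⟨φ a, φ s, hs, e⟩
  · obtain ⟨a', s, hs, ea⟩ := s1 a
    obtain ⟨b', t, ht, eb⟩ := s1 b
    obtain ⟨r, hr, er⟩ := e2 (a' * t) (b' * s) (by
      simp only [RingHom.comp_apply, map_mul, ← ea, ← eb]
      linear_combination (ψ (φ s) * ψ (φ t)) * hab)
    refine ⟨φ r * (φ s * φ t), ?_, ?_⟩
    · rw [map_mul, map_mul]; exact hr.mul ((hs.map ψ).mul (ht.map ψ))
    · have := congrArg φ er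
      simp only [map_mul, ← ea, ← eb] at this
      linear_combination this

theorem isLocHom_of_surjective_of_comp {φ : A →+* B} {ψ : B →+* C} (h : LocImm.IsLocHom φ)
    (hψ : Function.Surjective ψ) (hinj : Function.Injective (ψ.comp φ)) :
    LocImm.IsLocHom (ψ.comp φ) := by
  obtain ⟨s1, -⟩ := (isLocHom_iff _).1 h
  refine (isLocHom_iff _).2 ⟨fun z => ?_, fun a b hab => ⟨1, by simp, by rw [hinj hab]⟩⟩
  obtain ⟨b, rfl⟩ := hψ z
  obtain ⟨a, s, hs, e⟩ := s1 b
  exact ⟨a, s, hs.map ψ, by simp only [RingHom.comp_apply, ← map_mul, e]⟩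

end

theorem isLocHom_iso {A B : CommRingCat.{u}} (e : A ⟶ B) [IsIso e] : LocImm.IsLocHom e.hom :=
  isLocHom_equiv (asIso e).commRingCatIsoToRingEquiv

theorem isLocHom_of_isLocalization {A B : Type*} [CommRing A] [CommRing B] (φ : A →+* B)
    (S : Submonoid A) (h : @IsLocalization A _ S B _ φ.toAlgebra) : LocImm.IsLocHom φ :=
  ⟨S, h⟩

theorem isLocHom_of_isPushout {A B A' B' : CommRingCat.{u}} {f : A ⟶ B} {g : A ⟶ A'} {f' : A' ⟶ B'}
    {g' : B ⟶ B'} (h : IsPushout f g g' f') (hf : LocImm.IsLocHom f.hom) :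
    LocImm.IsLocHom f'.hom := by
  algebraize [f.hom, g.hom, f'.hom, g'.hom, f'.hom.comp g.hom]
  have hc : f'.hom.comp g.hom = g'.hom.comp f.hom := by
    rw [← CommRingCat.hom_comp, ← CommRingCat.hom_comp, h.w]
  haveI : IsScalarTower A B B' := .of_algebraMap_eq' hc
  obtain ⟨S, hS⟩ := hf
  haveI : IsLocalization S B := hS
  haveI : Algebra.IsPushout A B A' B' := CommRingCat.isPushout_iff_isPushout.1 h
  haveI : Algebra.IsPushout A A' B B' := Algebra.IsPushout.symm inferInstance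
  exact ⟨_, (Algebra.isLocalization_iff_isPushout (T := A') (B := B') S B).2 inferInstance⟩

/-- A ring map essentially of finite type from a noetherian ring which is a local isomorphism at a
prime is localizing near that prime. -/
theorem exists_away_isLocHom {A B : Type u} [CommRing A] [CommRing B] [Algebra A B]
    [IsNoetherianRing A] [Algebra.EssFiniteType A B] (q : Ideal B) [q.IsPrime]
    (h : Function.Bijective (Localization.localRingHom (q.comap (algebraMap A B)) q (algebraMap A B) rfl)) :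
    ∃ t : B, t ∉ q ∧ LocImm.IsLocHom ((algebraMap B (Localization.Away t)).comp (algebraMap A B)) := by
  classical
  let φ := algebraMap A B
  have loc : ∀ z : B, ∃ a s : A, ∃ t : B, φ s ∉ q ∧ t ∉ q ∧ t * (z * φ s) = t * φ a := by
    intro z
    obtain ⟨w, hw⟩ := h.2 (algebraMap B _ z)
    obtain ⟨⟨a, s⟩, e⟩ := IsLocalization.surj (q.comap φ).primeCompl w
    have e' := congrArg (Localization.localRingHom (q.comap φ) q φ rfl) e
    rw [map_mul, hw, Localization.localRingHom_to_map, Localization.localRingHom_to_map, ← map_mul] at e'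
    obtain ⟨t, ht⟩ := (IsLocalization.eq_iff_exists q.primeCompl _).1 e'
    exact ⟨a, s, t, s.2, t.2, ht⟩
  choose a s t hs ht e using loc
  obtain ⟨G, hG⟩ : (RingHom.ker φ).FG := IsNoetherian.noetherian _
  -- the kernel of the first localisation
  let σ := Algebra.EssFiniteType.finset A B
  let t₁ : B := ∏ z ∈ σ, t z * φ (s z)
  have ht₁ : t₁ ∉ q := by
    simp only [t₁, Ideal.IsPrime.prod_mem_iff, not_exists, not_and]
    exact fun z _ hz => (Ideal.IsPrime.mem_or_mem ‹_› hz).elim (ht z) (hs z)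
  let φ₁ : A →+* Localization.Away t₁ := (algebraMap B _).comp φ
  obtain ⟨K, hK⟩ : (RingHom.ker φ₁).FG := IsNoetherian.noetherian _
  have kill : ∀ a ∈ RingHom.ker φ₁, ∃ c : A, φ c ∉ q ∧ c * a = 0 := by
    intro a ha
    obtain ⟨⟨_, n, rfl⟩, hn⟩ := (IsLocalization.map_eq_zero_iff (Submonoid.powers t₁) _ _).1
      (RingHom.mem_ker.1 ha)
    have h0 : algebraMap B (Localization.AtPrime q) (φ a) = 0 :=
      (IsLocalization.map_eq_zero_iff q.primeCompl _ _).2 ⟨⟨t₁ ^ n, fun hm => ht₁ (Ideal.IsPrime.mem_of_pow_mem ‹_› n hm)⟩, hn⟩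
    rw [← Localization.localRingHom_to_map (q.comap φ) q φ rfl] at h0
    obtain ⟨⟨c, hc⟩, hc'⟩ := (IsLocalization.map_eq_zero_iff (q.comap φ).primeCompl _ _).1
      (h.1 (h0.trans (map_zero _).symm))
    exact ⟨c, hc, hc'⟩
  choose c hc hc' using kill
  let s₀ : A := ∏ k ∈ K.attach, c k.1 (hK ▸ Submodule.subset_span k.2)
  have hs₀ : φ s₀ ∉ q := by
    simp only [s₀, map_prod, Ideal.IsPrime.prod_mem_iff, not_exists, not_and]
    exact fun k _ => hc _ _
  have kill₀ : ∀ a ∈ RingHom.ker φ₁, s₀ * a = 0 := by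
    intro a ha
    rw [← hK] at ha
    refine Submodule.span_induction ?_ (mul_zero _) (fun x y _ _ hx hy => by rw [mul_add, hx, hy, add_zero])
      (fun r x _ hx => by rw [smul_eq_mul, mul_left_comm, hx, mul_zero]) ha
    intro k hk
    obtain ⟨m, hm⟩ := Finset.dvd_prod_of_mem (fun k : K => c k.1 (hK ▸ Submodule.subset_span k.2))
      (Finset.mem_attach _ ⟨k, hk⟩)
    rw [show s₀ = _ from hm, mul_right_comm, hc', zero_mul]
  let t₂ : B := t₁ * φ s₀
  refine ⟨t₂, fun hm => (Ideal.IsPrime.mem_or_mem ‹_› hm).elim ht₁ hs₀, ?_⟩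
  let ψ : B →+* Localization.Away t₂ := algebraMap B _
  have hu : ∀ d : B, d ∣ t₂ → IsUnit (ψ d) := fun d hd =>
    isUnit_of_dvd_unit (map_dvd ψ hd) (IsLocalization.Away.algebraMap_isUnit t₂)
  -- fractions of elements of `A`
  let Fr : Localization.Away t₂ → Prop := fun z =>
    ∃ a s : A, IsUnit (ψ (φ s)) ∧ z * ψ (φ s) = ψ (φ a)
  have frAdj : ∀ z ∈ Algebra.adjoin A (σ : Set B), Fr (ψ z) := by
    intro z hz
    refine Algebra.adjoin_induction ?_ ?_ ?_ ?_ hz
    · intro z hz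
      have hd : t z * φ (s z) ∣ t₂ := (Finset.dvd_prod_of_mem (fun z => t z * φ (s z)) hz).trans (dvd_mul_right _ _)
      refine ⟨a z, s z, hu _ ((dvd_mul_left _ _).trans hd), ?_⟩
      rw [← map_mul]
      refine (hu (t z) ((dvd_mul_right _ _).trans hd)).mul_left_cancel ?_
      rw [← map_mul, ← map_mul, e z]
    · exact fun r => ⟨r, 1, by simp, by simp [φ]⟩
    · rintro x y - - ⟨a, s, hs, ex⟩ ⟨b, r, hr, ey⟩
      refine ⟨a * r + b * s, s * r, by simp only [map_mul]; exact hs.mul hr, ?_⟩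
      simp only [map_mul, map_add, ← ex, ← ey]; ring
    · rintro x y - - ⟨a, s, hs, ex⟩ ⟨b, r, hr, ey⟩
      refine ⟨a * b, s * r, by simp only [map_mul]; exact hs.mul hr, ?_⟩
      simp only [map_mul, ← ex, ← ey]; ring
  have frB : ∀ z : B, Fr (ψ z) := by
    intro z
    obtain ⟨⟨x, ⟨y, hy⟩⟩, e⟩ := IsLocalization.surj (Algebra.EssFiniteType.submonoid A B) z
    obtain ⟨a, s, hs, ea⟩ := frAdj _ x.2
    obtain ⟨b, r, hr, eb⟩ := frAdj _ y.2
    have hyu : IsUnit (ψ (y : B)) := IsUnit.map ψ hy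
    have hbu : IsUnit (ψ (φ b)) := by rw [← eb]; exact hyu.mul hr
    refine ⟨a * r, b * s, by simp only [map_mul]; exact hbu.mul hs, ?_⟩
    have e' : ψ z * ψ (y : B) = ψ (x : B) := by rw [← map_mul]; exact congrArg ψ e
    simp only [map_mul, ← ea, ← eb]
    linear_combination (ψ (φ r) * ψ (φ s)) * e'
  refine (isLocHom_iff _).2 ⟨fun z => ?_, fun x y hxy => ?_⟩
  · obtain ⟨⟨b, ⟨_, n, rfl⟩⟩, e⟩ := IsLocalization.surj (Submonoid.powers t₂) z
    obtain ⟨a, s, hs, eb⟩ := frB b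
    obtain ⟨a', s', hs', et⟩ := frB (t₂ ^ n)
    have hu' : IsUnit (ψ (φ a')) := by
      rw [← et]; exact (by rw [map_pow]; exact (hu _ dvd_rfl).pow n : IsUnit (ψ (t₂ ^ n))).mul hs'
    refine ⟨a * s', s * a', by simp only [RingHom.comp_apply, map_mul]; exact hs.mul hu', ?_⟩
    simp only [RingHom.comp_apply, map_mul]
    change z * (ψ (φ s) * ψ (φ a')) = ψ (φ a) * ψ (φ s')
    rw [← eb, ← et]
    have e' : z * ψ (t₂ ^ n) = ψ b := e
    linear_combination (ψ (φ s) * ψ (φ s')) * e'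
  · have h0 : ψ (φ (x - y)) = 0 := by
      rw [map_sub, map_sub, sub_eq_zero]; exact hxy
    obtain ⟨⟨_, n, rfl⟩, hn⟩ := (IsLocalization.map_eq_zero_iff (Submonoid.powers t₂) _ _).1 h0
    simp only [t₂, mul_pow] at hn
    have hk : s₀ ^ n * (x - y) ∈ RingHom.ker φ₁ := by
      refine RingHom.mem_ker.2 ((IsLocalization.map_eq_zero_iff (Submonoid.powers t₁) _ _).2
        ⟨⟨t₁ ^ n, n, rfl⟩, ?_⟩)
      rw [map_mul, map_pow, ← mul_assoc]; exact hn
    refine ⟨s₀ ^ (n + 1), ?_, ?_⟩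
    · simp only [RingHom.comp_apply, map_pow]; exact (hu _ (dvd_mul_left _ _)).pow _
    · rw [← sub_eq_zero, ← mul_sub, pow_succ', mul_assoc, kill₀ _ hk]

end Groth.Agent.LocImmLib
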