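import Groth.Agent.LocImmLib.Alg
import Groth.Agent.H23.RatExtend
import Mathlib.AlgebraicGeometry.Morphisms.Flat
import Mathlib.AlgebraicGeometry.Morphisms.Preimmersion
import Mathlib.AlgebraicGeometry.Morphisms.UniversallyOpen
import Mathlib.AlgebraicGeometry.Morphisms.ClosedImmersion

/-!
# Localizing immersions through affine charts of the target
-/

universe u

open CategoryTheory CategoryTheory.Limits AlgebraicGeometry Topology TopologicalSpace

namespace Groth.Agent.LocImmLib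

variable {X Y Z : Scheme.{u}} {f : X ⟶ Y} {g : Y ⟶ Z}

/-- An affine open whose preimage is affine, with localizing map of sections. -/
def Good (f : X ⟶ Y) (V : Y.Opens) : Prop :=
  IsAffineOpen V ∧ IsAffineOpen (f ⁻¹ᵁ V) ∧ LocImm.IsLocHom (f.app V).hom

/-- Localizing immersion, read off on the target. -/
def LI (f : X ⟶ Y) : Prop := ∀ x : X, ∃ V : Y.Opens, f x ∈ V ∧ Good f V

theorem isLocHom_res {U : X.Opens} (hU : IsAffineOpen U) (a : Γ(X, U)) :
    LocImm.IsLocHom (X.presheaf.map (homOfLE (X.basicOpen_le a)).op).hom :=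
  ⟨_, hU.isLocalization_basicOpen a⟩

theorem Good.basicOpen {V : Y.Opens} (h : Good f V) (a : Γ(Y, V)) : Good f (Y.basicOpen a) := by
  refine ⟨h.1.basicOpen a, by rw [Scheme.preimage_basicOpen]; exact h.2.1.basicOpen _, ?_⟩
  refine isLocHom_of_comp (isLocHom_res h.1 a) ?_
  rw [← CommRingCat.hom_comp, Scheme.Hom.naturality, CommRingCat.hom_comp]
  refine isLocHom_comp h.2.2 ?_
  have hb : (Opens.map f.base).obj (Y.basicOpen a) = X.basicOpen (f.app V a) := Scheme.preimage_basicOpen f a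
  have e : X.presheaf.map ((Opens.map f.base).op.map (homOfLE (Y.basicOpen_le a)).op) =
      X.presheaf.map (homOfLE (X.basicOpen_le (f.app V a))).op ≫ X.presheaf.map (eqToHom hb).op := by
    rw [← X.presheaf.map_comp]; rfl
  erw [e, CommRingCat.hom_comp]
  exact isLocHom_comp (isLocHom_res h.2.1 _) (isLocHom_iso _)

theorem Good.exists_le {V : Y.Opens} (h : Good f V) {W : Y.Opens} {y : Y} (hy : y ∈ V) (hW : y ∈ W) :
    ∃ V' : Y.Opens, y ∈ V' ∧ V' ≤ W ∧ V' ≤ V ∧ Good f V' := by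
  obtain ⟨a, ha, hya⟩ := h.1.exists_basicOpen_le ⟨y, hW⟩ hy
  exact ⟨Y.basicOpen a, hya, ha, Y.basicOpen_le a, h.basicOpen a⟩

theorem LI.exists_good (hf : LI f) {x : X} {W : Y.Opens} (hx : f x ∈ W) :
    ∃ V : Y.Opens, f x ∈ V ∧ V ≤ W ∧ Good f V := by
  obtain ⟨V, hV, hg⟩ := hf x
  obtain ⟨V', h1, h2, -, h4⟩ := hg.exists_le hV hx
  exact ⟨V', h1, h2, h4⟩

theorem LI.exists_chart (hf : LI f) (x : X) : ∃ (R : CommRingCat.{u}) (i : Spec R ⟶ X) (V : Y.Opens),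
    IsOpenImmersion i ∧ x ∈ Set.range i ∧ f x ∈ V ∧ Set.range i = ↑(f ⁻¹ᵁ V) ∧ IsPreimmersion (i ≫ f) ∧
    Flat (i ≫ f) := by
  obtain ⟨V, hxV, hV, hW, hφ⟩ := hf x
  rw [Scheme.Hom.app_eq_appLE] at hφ
  let φ := f.appLE V (f ⁻¹ᵁ V) le_rfl
  letI := φ.hom.toAlgebra
  obtain ⟨M, hM⟩ : ∃ M : Submonoid Γ(Y, V), IsLocalization M Γ(X, f ⁻¹ᵁ V) := hφ
  have h1 : IsPreimmersion (Spec.map φ) := IsPreimmersion.of_isLocalization (R := Γ(Y, V)) (S := Γ(X, f ⁻¹ᵁ V)) M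
  have h2 : Flat (Spec.map φ) :=
    (HasRingHomProperty.Spec_iff (P := @Flat)).2 (IsLocalization.flat (Γ(X, f ⁻¹ᵁ V)) M)
  have e1 : hW.fromSpec ≫ f = Spec.map φ ≫ hV.fromSpec := (hV.SpecMap_appLE_fromSpec f hW le_rfl).symm
  refine ⟨_, hW.fromSpec, V, inferInstance, by rw [hW.range_fromSpec]; exact hxV, hxV, hW.range_fromSpec, ?_, ?_⟩ <;>
    (rw [e1]; infer_instance)

theorem LI.isPreimmersion (hf : LI f) : IsPreimmersion f where
  stalkMap_surjective x := by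
    obtain ⟨R, i, V, hi, ⟨q, rfl⟩, -, -, hpre, -⟩ := hf.exists_chart x
    have h := (i ≫ f).stalkMap_surjective q
    rw [Scheme.Hom.stalkMap_comp] at h
    intro z
    obtain ⟨w, hw⟩ := h (i.stalkMap q z)
    exact ⟨w, (ConcreteCategory.bijective_of_isIso (i.stalkMap q)).1 hw⟩
  isEmbedding := by
    refine ⟨isInducing_iff_nhds.2 fun x => ?_, fun x x' e => ?_⟩
    · obtain ⟨R, i, V, hi, ⟨q, rfl⟩, hxV, hr, hpre, -⟩ := hf.exists_chart x
      rw [← i.isOpenEmbedding.map_nhds_eq q, (i ≫ f).isEmbedding.isInducing.nhds_eq_comap q]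
      change Filter.map i (Filter.comap (f ∘ i) _) = _
      rw [← Filter.comap_comap, Filter.map_comap]
      refine inf_eq_left.2 (Filter.le_principal_iff.2 ?_)
      rw [hr]
      exact Filter.preimage_mem_comap (V.isOpen.mem_nhds hxV)
    · obtain ⟨R, i, V, hi, ⟨q, rfl⟩, hxV, hr, hpre, -⟩ := hf.exists_chart x
      obtain ⟨q', rfl⟩ : x' ∈ Set.range i := by
        rw [hr]; show f x' ∈ V; exact (show f (i q) = f x' from e) ▸ hxV
      exact congrArg i ((i ≫ f).isEmbedding.injective (by simpa using e))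

theorem LI.flat (hf : LI f) : Flat f := by
  choose R i V hi hx hxV hr hpre hflat using hf.exists_chart
  haveI : IsZariskiLocalAtSource @Flat.{u} := HasRingHomProperty.instIsZariskiLocalAtSource
  refine IsZariskiLocalAtSource.of_openCover (P := @Flat) (Scheme.openCoverOfIsOpenCover _
    (fun x => (i x).opensRange) (.mk <| top_unique fun x _ => TopologicalSpace.Opens.mem_iSup.2 ⟨x, hx x⟩))
    fun (x : ↥X) => ?_
  haveI := hflat x
  haveI := hi x
  show Flat ((i x).opensRange.ι ≫ f)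
  rw [show (i x).opensRange.ι ≫ f = (i x).isoOpensRange.inv ≫ (i x ≫ f) by simp]
  infer_instance

theorem LI.isIso_stalkMap (hf : LI f) (x : X) : IsIso (f.stalkMap x) :=
  haveI := hf.flat
  haveI := hf.isPreimmersion
  H23.RatExtend.isIso_stalkMap f x

theorem LI.generalizing (hf : LI f) : GeneralizingMap f :=
  haveI := hf.flat
  Flat.generalizingMap f

theorem LI.stableUnderGeneralization (hf : LI f) : StableUnderGeneralization (Set.range f) :=
  hf.generalizing.stableUnderGeneralization_range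

theorem LI.isLocImmersion (hf : LI f) : LocImm.IsLocImmersion f := by
  refine ⟨fun x => ?_, hf.isPreimmersion.isEmbedding.injective⟩
  obtain ⟨V, hxV, hV, hW, hφ⟩ := hf x
  exact ⟨⟨V, hV⟩, ⟨_, hW⟩, hxV, le_rfl, by rwa [Scheme.Hom.app_eq_appLE] at hφ⟩

theorem LI.of_isEmbedding (hloc : LocImm.IsLocalizing f) (he : IsEmbedding f) : LI f := by
  intro x
  obtain ⟨⟨U, hU⟩, ⟨V, hV⟩, hxV, e, hφ⟩ := hloc x
  obtain ⟨O, hO, hOV⟩ := he.isInducing.isOpen_iff.1 V.isOpen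
  have hxO : f x ∈ O := by
    have h : x ∈ f ⁻¹' O := by rw [hOV]; exact hxV
    exact h
  obtain ⟨a, ha, hxa⟩ := hU.exists_basicOpen_le (V := ⟨O, hO⟩) ⟨f x, hxO⟩ (e hxV)
  have hpre : f ⁻¹ᵁ Y.basicOpen a = X.basicOpen (f.appLE U V e a) := by
    rw [Scheme.Hom.appLE, CommRingCat.comp_apply, Scheme.basicOpen_res, ← Scheme.preimage_basicOpen]
    refine (inf_eq_right.2 fun z hz => ?_).symm
    have h : z ∈ f ⁻¹' O := ha hz
    rw [hOV] at h
    exact h
  refine ⟨Y.basicOpen a, hxa, hU.basicOpen a, by rw [hpre]; exact hV.basicOpen _, ?_⟩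
  refine isLocHom_of_comp (isLocHom_res hU a) ?_
  have e' : Y.presheaf.map (homOfLE (Y.basicOpen_le a)).op ≫ f.app (Y.basicOpen a) =
      f.appLE U V e ≫ X.presheaf.map (homOfLE (X.basicOpen_le (f.appLE U V e a))).op ≫
        X.presheaf.map (eqToHom hpre).op := by
    rw [Scheme.Hom.app_eq_appLE, Scheme.Hom.map_appLE, Scheme.Hom.appLE_map_assoc, Scheme.Hom.appLE_map]
  rw [← CommRingCat.hom_comp, e', CommRingCat.hom_comp, CommRingCat.hom_comp]
  exact isLocHom_comp hφ (isLocHom_comp (isLocHom_res hV _) (isLocHom_iso _))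

theorem LI.comp (hf : LI f) (hg : LI g) : LI (f ≫ g) := by
  intro x
  obtain ⟨W, hxW, hW⟩ := hg (f x)
  obtain ⟨V, hxV, hVW, hV⟩ := hf.exists_good (x := x) (W := g ⁻¹ᵁ W) hxW
  obtain ⟨a, b, hab, hxa⟩ := exists_basicOpen_le_affine_inter hV.1 hW.2.1 (f x) ⟨hxV, hxW⟩
  obtain ⟨c, s, hs, e⟩ := ((isLocHom_iff _).1 hW.2.2).1 b
  have hWc : g ⁻¹ᵁ Z.basicOpen c = Y.basicOpen b := by
    rw [Scheme.preimage_basicOpen]
    show Y.basicOpen ((g.app W).hom c) = _
    rw [← e, Scheme.basicOpen_mul, Scheme.basicOpen_of_isUnit Y hs]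
    exact inf_eq_left.2 (Y.basicOpen_le b)
  refine ⟨Z.basicOpen c, ?_, hW.1.basicOpen c, ?_, ?_⟩
  · show f x ∈ g ⁻¹ᵁ Z.basicOpen c
    rw [hWc, ← hab]; exact hxa
  · show IsAffineOpen (f ⁻¹ᵁ (g ⁻¹ᵁ Z.basicOpen c))
    rw [hWc, ← hab]; exact (hV.basicOpen a).2.1
  · have h2 : LocImm.IsLocHom (f.app (g ⁻¹ᵁ Z.basicOpen c)).hom := by
      rw [hWc, ← hab]; exact (hV.basicOpen a).2.2
    rw [Scheme.Hom.comp_app]; erw [CommRingCat.hom_comp]
    exact isLocHom_comp (hW.basicOpen c).2.2 h2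

theorem LI.of_isOpenImmersion (f : X ⟶ Y) [IsOpenImmersion f] : LI f := by
  intro x
  obtain ⟨_, ⟨V, hV, rfl⟩, hxV, hle⟩ := Y.isBasis_affineOpens.exists_subset_of_mem_open
    (show f x ∈ f.opensRange from ⟨x, rfl⟩) f.opensRange.isOpen
  refine ⟨V, hxV, hV, hV.preimage_of_isOpenImmersion f hle, ?_⟩
  haveI : IsIso (f.app V) := Scheme.Hom.isIso_app f V hle
  exact isLocHom_iso _

theorem LI.iso_comp {X' : Scheme.{u}} (e : X' ⟶ X) [IsIso e] (hf : LI f) : LI (e ≫ f) :=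
  (LI.of_isOpenImmersion e).comp hf

theorem Good.pullback_snd {Y' : Scheme.{u}} {g : Y' ⟶ Y} {P : Scheme.{u}} {a : P ⟶ X} {b : P ⟶ Y'}
    (H : IsPullback a b f g) {V : Y.Opens} (hV : Good f V) {W : Y'.Opens} (hW : IsAffineOpen W)
    (hle : W ≤ g ⁻¹ᵁ V) : Good b W := by
  have hUY : b ⁻¹ᵁ W = a ⁻¹ᵁ (f ⁻¹ᵁ V) ⊓ b ⁻¹ᵁ W := by
    refine (inf_eq_right.2 ?_).symm
    rw [← Scheme.Hom.comp_preimage, H.w, Scheme.Hom.comp_preimage]
    exact b.preimage_mono hle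
  haveI := isIso_pushoutSection_of_isAffineOpen H hle (le_refl (f ⁻¹ᵁ V)) hUY hV.1 hW hV.2.1
  have hP := (isIso_pushoutSection_iff H hle (le_refl (f ⁻¹ᵁ V)) hUY).1 inferInstance
  haveI : IsAffine _ := hV.1
  haveI : IsAffine _ := hV.2.1
  haveI : IsAffine _ := hW
  refine ⟨hW, .of_isIso (Scheme.Hom.isPullback_resLE H hle (le_refl (f ⁻¹ᵁ V)) hUY).isoPullback.hom, ?_⟩
  rw [Scheme.Hom.app_eq_appLE]
  refine isLocHom_of_isPushout hP ?_
  rw [← Scheme.Hom.app_eq_appLE]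
  exact hV.2.2

theorem LI.pullback_snd {Y' : Scheme.{u}} {g : Y' ⟶ Y} {P : Scheme.{u}} {a : P ⟶ X} {b : P ⟶ Y'}
    (H : IsPullback a b f g) (hf : LI f) : LI b := by
  intro z
  obtain ⟨V, hxV, hV⟩ := hf (a z)
  have hz : g (b z) ∈ V := by
    rw [← Scheme.Hom.comp_apply, ← H.w, Scheme.Hom.comp_apply]; exact hxV
  obtain ⟨_, ⟨W, hW, rfl⟩, hzW, hle⟩ := Y'.isBasis_affineOpens.exists_subset_of_mem_open
    (show b z ∈ g ⁻¹ᵁ V from hz) (g ⁻¹ᵁ V).isOpen
  exact ⟨W, hzW, hV.pullback_snd H hW hle⟩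

theorem LI.of_comp_mono [Mono g] (h : LI (f ≫ g)) : LI f :=
  LI.pullback_snd (a := 𝟙 X) (g := g)
    (IsPullback.of_isLimit' ⟨by simp⟩ (PullbackCone.IsLimit.mk _ (fun s => s.fst) (fun s => by simp)
      (fun s => by rw [← cancel_mono g, Category.assoc]; exact s.condition) fun s m h1 _ => by simpa using h1)) h

theorem LI.of_comp_of_app_injective [IsSeparated g] (h : LI (f ≫ g))
    (hd : ∀ U : Y.Opens, Function.Injective (f.app U).hom) : LI f := by
  intro x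
  obtain ⟨V, hxV, hV⟩ := h x
  obtain ⟨_, ⟨W, hW, rfl⟩, hxW, hle⟩ := Y.isBasis_affineOpens.exists_subset_of_mem_open
    (show f x ∈ g ⁻¹ᵁ V from hxV) (g ⁻¹ᵁ V).isOpen
  have H := IsPullback.of_hasPullback (f ≫ g) g
  let s : X ⟶ pullback (f ≫ g) g := pullback.lift (𝟙 X) f (Category.id_comp _)
  have hs : s ≫ pullback.fst (f ≫ g) g = 𝟙 X := pullback.lift_fst _ _ _
  haveI : IsClosedImmersion (s ≫ pullback.fst (f ≫ g) g) := by rw [hs]; infer_instance
  haveI : IsClosedImmersion s := IsClosedImmersion.of_comp s (pullback.fst (f ≫ g) g)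
  have hP := hV.pullback_snd H hW hle
  have hfs : s ≫ pullback.snd (f ≫ g) g = f := pullback.lift_snd _ _ _
  suffices Good (s ≫ pullback.snd (f ≫ g) g) W by rw [hfs] at this; exact ⟨W, hxW, this⟩
  refine ⟨hW, hP.2.1.preimage s, ?_⟩
  rw [Scheme.Hom.comp_app]; erw [CommRingCat.hom_comp]
  refine isLocHom_of_surjective_of_comp hP.2.2 ?_ ?_
  · exact s.app_surjective _ hP.2.1
  · have := hd W
    rw [← hfs, Scheme.Hom.comp_app] at this
    exact this

theorem LI.specMap {A B : CommRingCat.{u}} {φ : A ⟶ B} (h : LocImm.IsLocHom φ.hom) : LI (Spec.map φ) := by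
  intro x
  refine ⟨⊤, trivial, isAffineOpen_top _, by rw [Scheme.Hom.preimage_top]; exact isAffineOpen_top _, ?_⟩
  have e : (Spec.map φ).app ⊤ = (Scheme.ΓSpecIso A).hom ≫ φ ≫ (Scheme.ΓSpecIso B).inv := by
    rw [← Scheme.ΓSpecIso_naturality_assoc, Iso.hom_inv_id, Category.comp_id]
  rw [e]; erw [CommRingCat.hom_comp, CommRingCat.hom_comp]
  exact isLocHom_comp (isLocHom_iso (Scheme.ΓSpecIso A).hom) (isLocHom_comp h (isLocHom_iso (Scheme.ΓSpecIso B).inv))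

theorem LI.fromSpecStalk (X : Scheme.{u}) (x : X) : LI (X.fromSpecStalk x) := by
  obtain ⟨V, hV, hxV, -⟩ := exists_isAffineOpen_mem_and_subset (U := (⊤ : X.Opens)) (x := x) trivial
  rw [← hV.fromSpecStalk_eq_fromSpecStalk hxV]
  unfold IsAffineOpen.fromSpecStalk
  refine (LI.specMap ?_).comp (LI.of_isOpenImmersion _)
  exact ⟨_, hV.isLocalization_stalk ⟨x, hxV⟩⟩

end Groth.Agent.LocImmLib
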