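import Groth.Agent.LocImmLib.Nayak
import Groth.Agent.EssFTX.Basic

/-!
# Morphisms essentially of finite type and localizing properties
-/

universe u

open CategoryTheory CategoryTheory.Limits AlgebraicGeometry Topology TopologicalSpace

namespace Groth.Agent.LocImmLib

variable {X Y Z : Scheme.{u}}

theorem locallyEssFiniteType_comp (f : X ⟶ Y) (g : Y ⟶ Z) [EssFT.LocallyEssFiniteType f]
    [EssFT.LocallyEssFiniteType g] : EssFT.LocallyEssFiniteType (f ≫ g) := by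
  refine ⟨fun x => ?_⟩
  obtain ⟨⟨U, hU⟩, ⟨V, hV⟩, hxV, e, h1⟩ :=
    EssFT.LocallyEssFiniteType.exists_appLE_essFiniteType (f := g) (f x)
  obtain ⟨⟨U', hU'⟩, ⟨V', hV'⟩, hxV', e', h2⟩ :=
    EssFT.LocallyEssFiniteType.exists_appLE_essFiniteType (f := f) x
  obtain ⟨⟨W, hW⟩, hxW, eW, h3⟩ := EssFTX.At.change f hU' hV ⟨⟨V', hV'⟩, hxV', e', h2⟩ hxV
  refine ⟨⟨U, hU⟩, ⟨W, hW⟩, hxW, eW.trans (f.preimage_mono e), ?_⟩
  rw [← Scheme.Hom.appLE_comp_appLE f g U V W e eW, CommRingCat.hom_comp]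
  exact h1.comp h3

theorem LI.locallyEssFiniteType {f : X ⟶ Y} (hf : LI f) : EssFT.LocallyEssFiniteType f := by
  refine ⟨fun x => ?_⟩
  obtain ⟨V, hxV, hV, hW, hφ⟩ := hf x
  refine ⟨⟨V, hV⟩, ⟨_, hW⟩, hxV, le_rfl, ?_⟩
  rw [Scheme.Hom.app_eq_appLE] at hφ
  let φ := f.appLE V (f ⁻¹ᵁ V) le_rfl
  letI := φ.hom.toAlgebra
  obtain ⟨M, hM⟩ : ∃ M : Submonoid Γ(Y, V), IsLocalization M Γ(X, f ⁻¹ᵁ V) := hφ
  exact RingHom.essFiniteType_algebraMap.2 (Algebra.EssFiniteType.of_isLocalization _ M)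

theorem essFiniteType_of [IsNoetherian X] (f : X ⟶ Y) [EssFT.LocallyEssFiniteType f] :
    EssFT.EssFiniteType f :=
  haveI : QuasiCompact f := quasiCompact_of_noetherianSpace_source f
  {}

variable {P : MorphismProperty Scheme.{u}}
  (hα : ∀ {W X Y : Scheme.{u}} [IsNoetherian W] [IsNoetherian X] [IsNoetherian Y] (i : W ⟶ X) (f : X ⟶ Y)
    [IsSeparated f] [EssFT.EssFiniteType f], LocImm.IsLocImmersion i → P f → P (i ≫ f))

include hα in
theorem stalk_iff [IsNoetherian X] [IsNoetherian Y] [IsNoetherian Z] {i : X ⟶ Y} (hi : LI i) (p : Y ⟶ Z)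
    [IsSeparated p] [EssFT.LocallyEssFiniteType p] (x : X) :
    P (X.fromSpecStalk x ≫ i ≫ p) ↔ P (Y.fromSpecStalk (i x) ≫ p) := by
  haveI := hi.isPreimmersion
  haveI := hi.isIso_stalkMap x
  haveI := hi.locallyEssFiniteType
  haveI := (LI.fromSpecStalk X x).locallyEssFiniteType
  haveI := (LI.fromSpecStalk Y (i x)).locallyEssFiniteType
  haveI := locallyEssFiniteType_comp (Y.fromSpecStalk (i x)) p
  haveI := locallyEssFiniteType_comp i p
  haveI := locallyEssFiniteType_comp (X.fromSpecStalk x) (i ≫ p)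
  rw [← Scheme.SpecMap_stalkMap_fromSpecStalk_assoc]
  constructor
  · intro h
    haveI : EssFT.LocallyEssFiniteType (Spec.map (i.stalkMap x) ≫ Y.fromSpecStalk (i x) ≫ p) := by
      rw [Scheme.SpecMap_stalkMap_fromSpecStalk_assoc]; infer_instance
    haveI := essFiniteType_of (Spec.map (i.stalkMap x) ≫ Y.fromSpecStalk (i x) ≫ p)
    have := hα (inv (Spec.map (i.stalkMap x))) (Spec.map (i.stalkMap x) ≫ Y.fromSpecStalk (i x) ≫ p)
      (LI.of_isOpenImmersion _).isLocImmersion h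
    rwa [IsIso.inv_hom_id_assoc] at this
  · intro h
    haveI := essFiniteType_of (Y.fromSpecStalk (i x) ≫ p)
    exact hα _ _ (LI.of_isOpenImmersion _).isLocImmersion h

include hα in
theorem localizable
    (hβ₁ : ∀ {X Y : Scheme.{u}} [IsNoetherian X] [IsNoetherian Y] (f : X ⟶ Y) [IsSeparated f] [LocallyOfFiniteType f],
      (∀ x : X, P (X.fromSpecStalk x ≫ f)) → P f)
    (hβ₂ : ∀ {X Y : Scheme.{u}} [IsNoetherian X] [IsNoetherian Y] (f : X ⟶ Y) [IsSeparated f] [LocallyOfFiniteType f],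
      IsOpen {x : X | P (X.fromSpecStalk x ≫ f)})
    [IsNoetherian X] [IsNoetherian Y] (f : X ⟶ Y) [IsSeparated f] [EssFT.EssFiniteType f] :
    ((∀ x : X, P (X.fromSpecStalk x ≫ f)) → P f) ∧ IsOpen {x : X | P (X.fromSpecStalk x ≫ f)} ∧
      (P f → ∃ (Z : Scheme.{u}) (i : X ⟶ Z) (h : Z ⟶ Y), IsNoetherian Z ∧ LocImm.IsLocImmersion i ∧
        IsSeparated h ∧ LocallyOfFiniteType h ∧ QuasiCompact h ∧ P h ∧ i ≫ h = f) := by
  obtain ⟨W, k, p, hW, hk, _, _, _, rfl⟩ := factors f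
  haveI := locallyEssFiniteType_of_locallyOfFiniteType p
  let O : W.Opens := ⟨_, hβ₂ p⟩
  haveI := noetherian_opens O
  haveI := locallyEssFiniteType_of_locallyOfFiniteType (O.ι ≫ p)
  haveI := essFiniteType_of (O.ι ≫ p)
  have hO : P (O.ι ≫ p) := by
    refine hβ₁ _ fun z => (stalk_iff hα (LI.of_isOpenImmersion O.ι) p z).2 ?_
    exact z.2
  have key : (∀ x : X, P (X.fromSpecStalk x ≫ k ≫ p)) →
      ∃ i : X ⟶ O, LocImm.IsLocImmersion i ∧ i ≫ O.ι ≫ p = k ≫ p := by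
    intro h
    have hr : Set.range k ⊆ Set.range O.ι := by
      rw [Scheme.Opens.range_ι]
      rintro _ ⟨x, rfl⟩
      exact (stalk_iff hα hk p x).1 (h x)
    refine ⟨IsOpenImmersion.lift O.ι k hr, (LI.of_comp_mono (g := O.ι) ?_).isLocImmersion, ?_⟩
    · rw [IsOpenImmersion.lift_fac]; exact hk
    · rw [IsOpenImmersion.lift_fac_assoc]
  refine ⟨fun h => ?_, ?_, fun h => ?_⟩
  · obtain ⟨i, hi, he⟩ := key h
    rw [← he]
    exact hα i _ hi hO
  · have : {x : X | P (X.fromSpecStalk x ≫ k ≫ p)} = k ⁻¹' O := by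
      ext x; exact stalk_iff hα hk p x
    rw [this]; exact O.isOpen.preimage k.continuous
  · haveI := hk.locallyEssFiniteType
    haveI := locallyEssFiniteType_comp k p
    haveI := essFiniteType_of (k ≫ p)
    obtain ⟨i, hi, he⟩ := key fun x => hα _ _ (LI.fromSpecStalk X x).isLocImmersion h
    exact ⟨O, i, O.ι ≫ p, inferInstance, hi, inferInstance, inferInstance,
      quasiCompact_of_noetherianSpace_source _, hO, he⟩

theorem flat_fromSpecStalk_comp_iff (f : X ⟶ Y) (x : X) :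
    Flat (X.fromSpecStalk x ≫ f) ↔ (f.stalkMap x).hom.Flat := by
  rw [← Scheme.SpecMap_stalkMap_fromSpecStalk, ← Flat.SpecMap_iff]
  haveI := (LI.fromSpecStalk Y (f x)).flat
  refine ⟨fun h => ?_, fun h => inferInstance⟩
  have H : IsPullback (𝟙 (Spec (X.presheaf.stalk x))) (Spec.map (f.stalkMap x))
      (Spec.map (f.stalkMap x) ≫ Y.fromSpecStalk (f x)) (Y.fromSpecStalk (f x)) :=
    IsPullback.of_isLimit' ⟨by simp⟩ (PullbackCone.IsLimit.mk _ (fun s => s.fst) (fun s => by simp)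
      (fun s => by rw [← cancel_mono (Y.fromSpecStalk (f x)), Category.assoc]; exact s.condition)
      fun s m h1 _ => by simpa using h1)
  exact MorphismProperty.of_isPullback (P := @Flat) H h

end Groth.Agent.LocImmLib
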