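import Groth.Agent.LocImmLib.Noeth
import Mathlib.AlgebraicGeometry.Limits
import Mathlib.AlgebraicGeometry.Morphisms.Immersion

/-!
# Factorisations through localizing immersions (Nayak)
-/

universe u

open CategoryTheory CategoryTheory.Limits AlgebraicGeometry Topology TopologicalSpace

namespace Groth.Agent.LocImmLib

variable {X Y Y₁ Y₂ S W : Scheme.{u}}

theorem locallyEssFiniteType_of_locallyOfFiniteType (f : X ⟶ Y) [LocallyOfFiniteType f] :
    EssFT.LocallyEssFiniteType f := by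
  refine ⟨fun x => ?_⟩
  obtain ⟨U, hU, hxU, -⟩ := exists_isAffineOpen_mem_and_subset (U := (⊤ : Y.Opens)) (x := f x) trivial
  obtain ⟨V, hV, hxV, hle⟩ := exists_isAffineOpen_mem_and_subset (U := f ⁻¹ᵁ U) (x := x) hxU
  exact ⟨⟨U, hU⟩, ⟨V, hV⟩, hxV, hle, (f.finiteType_appLE hU hV hle).essFiniteType⟩

theorem maxPts_of_isOpenImmersion (j : X ⟶ Y) [IsOpenImmersion j] {x : X} (hx : x ∈ maxPts X) :
    j x ∈ maxPts Y := by
  intro y hy
  obtain ⟨x', rfl⟩ := j.isOpenEmbedding.isOpen_range.stableUnderGeneralization hy ⟨x, rfl⟩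
  rw [hx x' (j.isOpenEmbedding.isEmbedding.isInducing.specializes_iff.1 hy)]

theorem toImage_app_injective' (f : X ⟶ Y) [QuasiCompact f] (U : f.image.Opens) :
    Function.Injective (f.toImage.app U).hom := by
  rw [injective_iff_map_eq_zero]
  intro s hs
  refine f.image.IsSheaf.section_ext fun x hx => ?_
  obtain ⟨O, hO, hOU⟩ := f.imageι.isClosedEmbedding.isInducing.isOpen_iff.1 U.isOpen
  obtain ⟨V, hV, hxV, hle⟩ := exists_isAffineOpen_mem_and_subset (U := (⟨O, hO⟩ : Y.Opens)) (x := f.imageι x)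
    (show x ∈ f.imageι ⁻¹' O by rw [hOU]; exact hx)
  have hVU : f.imageι ⁻¹ᵁ V ≤ U := fun z hz => by
    have hz' : z ∈ f.imageι ⁻¹' O := hle hz
    rw [hOU] at hz'; exact hz'
  refine ⟨f.imageι ⁻¹ᵁ V, hVU, hxV, Scheme.Hom.toImage_app_injective f ⟨V, hV⟩ ?_⟩
  rw [← ConcreteCategory.comp_apply, f.toImage.naturality]
  simp [hs]

theorem pullback_map_isPreimmersion {A B A' B' : Scheme.{u}} (f : A ⟶ S) (g : B ⟶ S) (f' : A' ⟶ S) (g' : B' ⟶ S)
    (a : A ⟶ A') (b : B ⟶ B') (ha : f ≫ 𝟙 S = a ≫ f') (hb : g ≫ 𝟙 S = b ≫ g')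
    [IsPreimmersion a] [IsPreimmersion b] : IsPreimmersion (pullback.map f g f' g' a b (𝟙 S) ha hb) :=
  haveI : MorphismProperty.IsStableUnderComposition @IsPreimmersion.{u} := ⟨fun a b _ _ => inferInstance⟩
  MorphismProperty.pullbackMap (P := @IsPreimmersion) inferInstance inferInstance (by simpa using ha) (by simpa using hb)

/-- Two factorisations of the same morphism have a common open piece. -/
theorem exists_common [IsNoetherian X] [IsNoetherian Y₁] [IsNoetherian Y₂] [IsLocallyNoetherian S]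
    {f₁ : X ⟶ Y₁} {f₂ : X ⟶ Y₂} {π₁ : Y₁ ⟶ S} {π₂ : Y₂ ⟶ S} (hf₁ : LI f₁) (hf₂ : LI f₂)
    [IsSeparated π₁] [IsSeparated π₂] [LocallyOfFiniteType π₁] [LocallyOfFiniteType π₂]
    [QuasiCompact π₂] (h : f₁ ≫ π₁ = f₂ ≫ π₂) :
    ∃ (W : Scheme.{u}) (k : X ⟶ W) (g₁ : W ⟶ Y₁) (g₂ : W ⟶ Y₂), LI k ∧ IsOpenImmersion g₁ ∧ IsOpenImmersion g₂ ∧
      g₁ ≫ π₁ = g₂ ≫ π₂ ∧ k ≫ g₁ = f₁ ∧ k ≫ g₂ = f₂ ∧ IsNoetherian W ∧ maxPts W ⊆ Set.range k := by
  let ψ := pullback.lift f₁ f₂ h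
  haveI : IsLocallyNoetherian (pullback π₁ π₂) :=
    LocallyOfFiniteType.isLocallyNoetherian (pullback.fst π₁ π₂)
  haveI : CompactSpace ↥(pullback π₁ π₂) := QuasiCompact.compactSpace_of_compactSpace (pullback.fst π₁ π₂)
  haveI : IsNoetherian (pullback π₁ π₂) := ⟨⟩
  haveI : QuasiCompact ψ := quasiCompact_of_noetherianSpace_source ψ
  haveI : IsLocallyNoetherian ψ.image := LocallyOfFiniteType.isLocallyNoetherian ψ.imageι
  haveI : CompactSpace ↥ψ.image := ψ.imageι.isClosedEmbedding.compactSpace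
  haveI : IsNoetherian ψ.image := ⟨⟩
  let q₁ := ψ.imageι ≫ pullback.fst π₁ π₂
  let q₂ := ψ.imageι ≫ pullback.snd π₁ π₂
  haveI : IsSeparated q₁ := inferInstanceAs (IsSeparated (_ ≫ _))
  haveI : IsSeparated q₂ := inferInstanceAs (IsSeparated (_ ≫ _))
  haveI : LocallyOfFiniteType q₁ := inferInstanceAs (LocallyOfFiniteType (_ ≫ _))
  haveI : LocallyOfFiniteType q₂ := inferInstanceAs (LocallyOfFiniteType (_ ≫ _))
  haveI := locallyEssFiniteType_of_locallyOfFiniteType q₁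
  haveI := locallyEssFiniteType_of_locallyOfFiniteType q₂
  have e₁ : ψ.toImage ≫ q₁ = f₁ := (Scheme.Hom.toImage_imageι_assoc ψ _).trans (pullback.lift_fst _ _ _)
  have e₂ : ψ.toImage ≫ q₂ = f₂ := (Scheme.Hom.toImage_imageι_assoc ψ _).trans (pullback.lift_snd _ _ _)
  have hk : LI ψ.toImage := LI.of_comp_of_app_injective (g := q₁) (by rw [e₁]; exact hf₁) (toImage_app_injective' ψ)
  obtain ⟨U₁, hU₁, hm₁, hg₁⟩ := exists_open_LI q₁ hk (by rw [e₁]; exact hf₁)
  obtain ⟨U₂, hU₂, -, hg₂⟩ := exists_open_LI q₂ hk (by rw [e₂]; exact hf₂)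
  let U := U₁ ⊓ U₂
  haveI : CompactSpace U := isCompact_iff_compactSpace.1 (NoetherianSpace.isCompact _)
  haveI : IsNoetherian U := ⟨⟩
  have hkU : Set.range ψ.toImage ⊆ Set.range U.ι := by
    rw [Scheme.Opens.range_ι]; exact fun z hz => ⟨hU₁ hz, hU₂ hz⟩
  let k : X ⟶ U := IsOpenImmersion.lift U.ι ψ.toImage hkU
  have hki : k ≫ U.ι = ψ.toImage := IsOpenImmersion.lift_fac _ _ _
  refine ⟨U, k, U.ι ≫ q₁, U.ι ≫ q₂, LI.of_comp_mono (g := U.ι) (by rw [hki]; exact hk),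
    (LI.ι_comp inf_le_left hg₁).isOpenImmersion', (LI.ι_comp inf_le_right hg₂).isOpenImmersion',
    by simp [q₁, q₂, pullback.condition], by rw [reassoc_of% hki, e₁], by rw [reassoc_of% hki, e₂],
    inferInstance, ?_⟩
  intro w hw
  obtain ⟨x, hx⟩ := hm₁ _ (maxPts_of_isOpenImmersion (ψ.image.homOfLE (inf_le_left : U ≤ U₁)) hw)
  refine ⟨x, U.ι.isOpenEmbedding.injective ?_⟩
  rw [← Scheme.Hom.comp_apply, hki, hx]
  exact Scheme.homOfLE_apply inf_le_left w

section Glue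

variable (g₁ : W ⟶ Y₁) (g₂ : W ⟶ Y₂) [IsOpenImmersion g₁] [IsOpenImmersion g₂]

instance : IsOpenImmersion (pushout.inl g₁ g₂) := inferInstanceAs (IsOpenImmersion (colimit.ι _ _))

instance : IsOpenImmersion (pushout.inr g₁ g₂) := inferInstanceAs (IsOpenImmersion (colimit.ι _ _))

theorem glue_surjective (x : ↥(pushout g₁ g₂)) :
    x ∈ Set.range (pushout.inl g₁ g₂) ∨ x ∈ Set.range (pushout.inr g₁ g₂) := by
  obtain ⟨i, y, rfl⟩ := Scheme.IsLocallyDirected.ι_jointly_surjective (span g₁ g₂) x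
  rcases i with _ | (_ | _)
  · refine Or.inl ⟨g₁ y, ?_⟩
    rw [← colimit.w (span g₁ g₂) WalkingSpan.Hom.fst]
    rfl
  · exact Or.inl ⟨y, rfl⟩
  · exact Or.inr ⟨y, rfl⟩

theorem glue_eq_iff {a : Y₁} {b : Y₂} (h : pushout.inl g₁ g₂ a = pushout.inr g₁ g₂ b) :
    ∃ v : W, g₁ v = a ∧ g₂ v = b := by
  obtain ⟨k, fi, fj, z, hz, hz'⟩ := (Scheme.IsLocallyDirected.ι_eq_ι_iff (span g₁ g₂)).1 h
  rcases k with _ | (_ | _)
  · obtain rfl : fi = WalkingSpan.Hom.fst := Subsingleton.elim _ _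
    obtain rfl : fj = WalkingSpan.Hom.snd := Subsingleton.elim _ _
    exact ⟨z, hz, hz'⟩
  · exact (nomatch fj)
  · exact (nomatch fi)

theorem isSeparated_glue (p₁ : Y₁ ⟶ S) (p₂ : Y₂ ⟶ S) [IsSeparated p₁] [IsSeparated p₂]
    (h : g₁ ≫ p₁ = g₂ ≫ p₂) (hc : IsClosed (Set.range (pullback.lift g₁ g₂ h))) :
    IsSeparated (pushout.desc p₁ p₂ h) := by
  let a := pushout.inl g₁ g₂
  let b := pushout.inr g₁ g₂
  let p := pushout.desc p₁ p₂ h
  have ha : a ≫ p = p₁ := pushout.inl_desc _ _ _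
  have hb : b ≫ p = p₂ := pushout.inr_desc _ _ _
  let R := Set.range (pullback.diagonal p)
  -- preimage of the diagonal in each chart
  have key : ∀ {A B V : Scheme.{u}} (s : A ⟶ pushout g₁ g₂) (t : B ⟶ pushout g₁ g₂) [IsOpenImmersion s]
      [IsOpenImmersion t] (pA : A ⟶ S) (pB : B ⟶ S) (hs : s ≫ p = pA) (ht : t ≫ p = pB)
      (c : V ⟶ A) (d : V ⟶ B) (hcd : c ≫ pA = d ≫ pB) (_ : c ≫ s = d ≫ t)
      (_ : ∀ x y, s x = t y → ∃ v, c v = x ∧ d v = y) (_ : IsClosed (Set.range (pullback.lift c d hcd)))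
      (z : ↥(pullback p p)), z ∈ closure R → (pullback.fst p p) z ∈ Set.range s →
        (pullback.snd p p) z ∈ Set.range t → z ∈ R := by
    intro A B V s t _ _ pA pB hs ht c d hcd hsq hlift hcl z hz h1 h2
    let m : pullback pA pB ⟶ pullback p p :=
      pullback.map _ _ _ _ s t (𝟙 S) (by simp [hs]) (by simp [ht])
    haveI : IsOpenImmersion m := by dsimp only [m]; infer_instance
    obtain ⟨z', rfl⟩ : z ∈ Set.range m := by rw [Scheme.Pullback.range_map]; exact ⟨h1, h2⟩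
    have hm1 : m ≫ pullback.fst p p = pullback.fst pA pB ≫ s := pullback.lift_fst _ _ _
    have hm2 : m ≫ pullback.snd p p = pullback.snd pA pB ≫ t := pullback.lift_snd _ _ _
    have hpre : m ⁻¹' R = Set.range (pullback.lift c d hcd) := by
      ext w
      constructor
      · rintro ⟨y, hy⟩
        have y1 : s ((pullback.fst pA pB) w) = y := by
          rw [← Scheme.Hom.comp_apply, ← hm1, Scheme.Hom.comp_apply, ← hy, ← Scheme.Hom.comp_apply,
            pullback.diagonal_fst]; rfl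
        have y2 : t ((pullback.snd pA pB) w) = y := by
          rw [← Scheme.Hom.comp_apply, ← hm2, Scheme.Hom.comp_apply, ← hy, ← Scheme.Hom.comp_apply,
            pullback.diagonal_snd]; rfl
        obtain ⟨v, hv1, -⟩ := hlift _ _ (y1.trans y2.symm)
        refine ⟨v, m.isOpenEmbedding.injective ?_⟩
        rw [← Scheme.Hom.comp_apply, show pullback.lift c d hcd ≫ m = (c ≫ s) ≫ pullback.diagonal p by
          apply pullback.hom_ext
          · rw [Category.assoc, hm1, pullback.lift_fst_assoc, Category.assoc (c ≫ s), pullback.diagonal_fst,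
              Category.comp_id]
          · rw [Category.assoc, hm2, pullback.lift_snd_assoc, Category.assoc (c ≫ s), pullback.diagonal_snd,
              Category.comp_id, hsq],
          Scheme.Hom.comp_apply, Scheme.Hom.comp_apply, hv1, y1, hy]
      · rintro ⟨v, rfl⟩
        refine ⟨(c ≫ s) v, ?_⟩
        rw [← Scheme.Hom.comp_apply, ← Scheme.Hom.comp_apply]
        suffices (c ≫ s) ≫ pullback.diagonal p = pullback.lift c d hcd ≫ m by rw [this]
        apply pullback.hom_ext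
        · rw [Category.assoc, Category.assoc (pullback.lift c d hcd), hm1, pullback.lift_fst_assoc,
            pullback.diagonal_fst, Category.comp_id]
        · rw [Category.assoc, Category.assoc (pullback.lift c d hcd), hm2, pullback.lift_snd_assoc,
            pullback.diagonal_snd, Category.comp_id, hsq]
    have : z' ∈ closure (m ⁻¹' R) := by
      rw [← m.isOpenEmbedding.isOpenMap.preimage_closure_eq_closure_preimage m.continuous]; exact hz
    rw [hpre, hcl.closure_eq, ← hpre] at this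
    exact this
  have hR : IsClosed R := by
    refine closure_subset_iff_isClosed.1 fun z hz => ?_
    have hd₁ : IsClosed (Set.range (pullback.lift (𝟙 Y₁) (𝟙 Y₁) (rfl : 𝟙 Y₁ ≫ p₁ = 𝟙 Y₁ ≫ p₁))) :=
      (pullback.diagonal p₁).isClosedEmbedding.isClosed_range
    have hd₂ : IsClosed (Set.range (pullback.lift (𝟙 Y₂) (𝟙 Y₂) (rfl : 𝟙 Y₂ ≫ p₂ = 𝟙 Y₂ ≫ p₂))) :=
      (pullback.diagonal p₂).isClosedEmbedding.isClosed_range
    have hswap : IsClosed (Set.range (pullback.lift g₂ g₁ h.symm)) := by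
      have e : pullback.lift g₂ g₁ h.symm = pullback.lift g₁ g₂ h ≫ (pullbackSymmetry p₁ p₂).hom := by
        apply pullback.hom_ext
        · rw [pullback.lift_fst, Category.assoc, pullbackSymmetry_hom_comp_fst, pullback.lift_snd]
        · rw [pullback.lift_snd, Category.assoc, pullbackSymmetry_hom_comp_snd, pullback.lift_fst]
      rw [e, Scheme.Hom.comp_base, TopCat.coe_comp, Set.range_comp]
      exact (TopCat.homeoOfIso (asIso (pullbackSymmetry p₁ p₂).hom.base)).isClosedMap _ hc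
    rcases glue_surjective g₁ g₂ ((pullback.fst p p) z) with h1 | h1 <;>
      rcases glue_surjective g₁ g₂ ((pullback.snd p p) z) with h2 | h2
    · exact key a a p₁ p₁ ha ha (𝟙 _) (𝟙 _) rfl rfl
        (fun x y e => ⟨x, rfl, a.isOpenEmbedding.injective e⟩) hd₁ z hz h1 h2
    · exact key a b p₁ p₂ ha hb g₁ g₂ h pushout.condition (fun x y e => glue_eq_iff g₁ g₂ e) hc z hz h1 h2
    · exact key b a p₂ p₁ hb ha g₂ g₁ h.symm pushout.condition.symm
        (fun x y e => (glue_eq_iff g₁ g₂ e.symm).imp fun v hv => hv.symm) hswap z hz h1 h2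
    · exact key b b p₂ p₂ hb hb (𝟙 _) (𝟙 _) rfl rfl
        (fun x y e => ⟨x, rfl, b.isOpenEmbedding.injective e⟩) hd₂ z hz h1 h2
  exact ⟨IsClosedImmersion.of_isPreimmersion _ hR⟩

end Glue

theorem isPushout_opens {U₁ U₂ : X.Opens} (hU : U₁ ⊔ U₂ = ⊤) :
    IsPushout (X.homOfLE (inf_le_left : U₁ ⊓ U₂ ≤ U₁)) (X.homOfLE (inf_le_right : U₁ ⊓ U₂ ≤ U₂)) U₁.ι U₂.ι := by
  let a₁ := X.homOfLE (inf_le_left : U₁ ⊓ U₂ ≤ U₁)
  let a₂ := X.homOfLE (inf_le_right : U₁ ⊓ U₂ ≤ U₂)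
  have hw : a₁ ≫ U₁.ι = a₂ ≫ U₂.ι := by rw [Scheme.homOfLE_ι, Scheme.homOfLE_ι]
  let q := pushout.desc U₁.ι U₂.ι hw
  have q1 : pushout.inl a₁ a₂ ≫ q = U₁.ι := pushout.inl_desc _ _ _
  have q2 : pushout.inr a₁ a₂ ≫ q = U₂.ι := pushout.inr_desc _ _ _
  have e1 : ∀ u, q (pushout.inl a₁ a₂ u) = U₁.ι u := fun u => by rw [← Scheme.Hom.comp_apply, q1]
  have e2 : ∀ u, q (pushout.inr a₁ a₂ u) = U₂.ι u := fun u => by rw [← Scheme.Hom.comp_apply, q2]
  have cross : ∀ (u : U₁) (v : U₂), U₁.ι u = U₂.ι v → pushout.inl a₁ a₂ u = pushout.inr a₁ a₂ v := by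
    intro u v e
    have hu : (u : X) ∈ U₁ ⊓ U₂ := ⟨u.2, by rw [show (u : X) = v from e]; exact v.2⟩
    let w : ((U₁ ⊓ U₂ : X.Opens) : Scheme.{u}) := ⟨u, hu⟩
    have h1 : a₁ w = u := Subtype.ext (Scheme.homOfLE_apply inf_le_left w)
    have h2 : a₂ w = v := Subtype.ext ((Scheme.homOfLE_apply inf_le_right w).trans e)
    rw [← h1, ← h2, ← Scheme.Hom.comp_apply, pushout.condition, Scheme.Hom.comp_apply]
  haveI : IsIso q := by
    haveI : IsZariskiLocalAtSource @UniversallyOpen.{u} := inferInstance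
    refine (isIso_iff_isIso_stalkMap q).2 ⟨?_, fun z => ?_⟩
    · refine (TopCat.isIso_iff_isHomeomorph _).2 ⟨q.continuous, fun O hO => ?_, fun z z' e => ?_, fun x => ?_⟩
      · have : q '' O = U₁.ι '' (pushout.inl a₁ a₂ ⁻¹' O) ∪ U₂.ι '' (pushout.inr a₁ a₂ ⁻¹' O) := by
          ext x
          constructor
          · rintro ⟨z, hz, rfl⟩
            rcases glue_surjective a₁ a₂ z with ⟨u, rfl⟩ | ⟨u, rfl⟩
            · exact Or.inl ⟨u, hz, (e1 u).symm⟩
            · exact Or.inr ⟨u, hz, (e2 u).symm⟩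
          · rintro (⟨u, hu, rfl⟩ | ⟨u, hu, rfl⟩)
            · exact ⟨_, hu, e1 u⟩
            · exact ⟨_, hu, e2 u⟩
        show IsOpen (q '' O)
        rw [this]
        exact (U₁.ι.isOpenEmbedding.isOpenMap _ (hO.preimage (pushout.inl a₁ a₂).continuous)).union
          (U₂.ι.isOpenEmbedding.isOpenMap _ (hO.preimage (pushout.inr a₁ a₂).continuous))
      · rcases glue_surjective a₁ a₂ z with ⟨u, rfl⟩ | ⟨u, rfl⟩ <;>
          rcases glue_surjective a₁ a₂ z' with ⟨v, rfl⟩ | ⟨v, rfl⟩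
        · exact congrArg _ (U₁.ι.isOpenEmbedding.injective ((e1 u).symm.trans (e.trans (e1 v))))
        · exact cross u v ((e1 u).symm.trans (e.trans (e2 v)))
        · exact (cross v u ((e1 v).symm.trans (e.symm.trans (e2 u)))).symm
        · exact congrArg _ (U₂.ι.isOpenEmbedding.injective ((e2 u).symm.trans (e.trans (e2 v))))
      · rcases (show x ∈ U₁ ⊔ U₂ by rw [hU]; trivial) with h | h
        · exact ⟨_, e1 ⟨x, h⟩⟩
        · exact ⟨_, e2 ⟨x, h⟩⟩
    · rcases glue_surjective a₁ a₂ z with ⟨u, rfl⟩ | ⟨u, rfl⟩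
      · haveI h : IsOpenImmersion (pushout.inl a₁ a₂ ≫ q) := by rw [q1]; infer_instance
        have hc : IsIso ((pushout.inl a₁ a₂ ≫ q).stalkMap u) := inferInstance
        rw [Scheme.Hom.stalkMap_comp] at hc
        exact @IsIso.of_isIso_comp_right _ _ _ _ _ _ ((pushout.inl a₁ a₂).stalkMap u) inferInstance hc
      · haveI h : IsOpenImmersion (pushout.inr a₁ a₂ ≫ q) := by rw [q2]; infer_instance
        have hc : IsIso ((pushout.inr a₁ a₂ ≫ q).stalkMap u) := inferInstance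
        rw [Scheme.Hom.stalkMap_comp] at hc
        exact @IsIso.of_isIso_comp_right _ _ _ _ _ _ ((pushout.inr a₁ a₂).stalkMap u) inferInstance hc
  exact IsPushout.of_iso (IsPushout.of_hasPushout a₁ a₂) (Iso.refl _) (Iso.refl _) (Iso.refl _) (asIso q)
    (by simp [a₁]) (by simp [a₂]) (by simp [q1]) (by simp [q2])

end Groth.Agent.LocImmLib
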