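import Groth.Agent.QCohSup92.SubAlg
import Groth.Agent.RelSpecX.AffHom
import Groth.Agent.RelSpecX.Gamma
import Mathlib.AlgebraicGeometry.ZariskisMainTheorem

/-!
# Separated quasi-finite morphisms over a qcqs base are open in finite ones (Zariski's main theorem)
-/

set_option autoImplicit false
set_option backward.isDefEq.respectTransparency false
set_option backward.isDefEq.respectTransparency.types false

open CategoryTheory CategoryTheory.Limits AlgebraicGeometry TopologicalSpace Opposite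

namespace Groth.Agent.LocImmLib

universe u

/-- Finitely many elements determine localizations of finite type. -/
theorem exists_finset_awayMap (R A : Type u) [CommRing R] [CommRing A] [Algebra R A] (t : Finset A)
    (hft : ∀ g ∈ t, Algebra.FiniteType R (Localization.Away g)) :
    ∃ s : Finset A, t ⊆ s ∧ ∀ (B : Type u) [CommRing B] (ι : B →+* A), Function.Injective ι →
      (∀ a : R, algebraMap R A a ∈ Set.range ι) → (↑s ⊆ Set.range ι) →
      ∀ gB, ι gB ∈ t → Function.Bijective (Localization.awayMap ι gB) := by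
  classical
  let num : ∀ g : A, Localization.Away g → A := fun g x =>
    (IsLocalization.surj (Submonoid.powers g) x).choose.1
  let gens : ∀ g ∈ t, Finset (Localization.Away g) := fun g hg => (hft g hg).out.choose
  refine ⟨t ∪ t.attach.biUnion fun g => (gens g.1 g.2).image (num g.1), Finset.subset_union_left, ?_⟩
  intro B _ ι hι hR hs gB hg
  let g := ι gB
  let L := Localization.Away g
  have key : ∀ x : L, ∃ (b : B) (n : ℕ), x * algebraMap A L g ^ n = algebraMap A L (ι b) := by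
    intro x
    have hx : x ∈ Algebra.adjoin R (gens g hg : Set L) := by
      rw [(hft g hg).out.choose_spec]; trivial
    induction hx using Algebra.adjoin_induction with
    | mem y hy =>
      obtain ⟨b, hb⟩ := hs (Finset.mem_union_right _ (Finset.mem_biUnion.2
        ⟨⟨g, hg⟩, Finset.mem_attach _ _, Finset.mem_image.2 ⟨y, hy, rfl⟩⟩) :
          num g y ∈ (↑(t ∪ t.attach.biUnion fun g => (gens g.1 g.2).image (num g.1)) : Set A))
      obtain ⟨n, hn⟩ := (IsLocalization.surj (Submonoid.powers g) y).choose.2.2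
      refine ⟨b, n, ?_⟩
      have h := (IsLocalization.surj (Submonoid.powers g) y).choose_spec
      rw [← hn, map_pow] at h
      rw [hb]
      exact h
    | algebraMap a =>
      obtain ⟨b, hb⟩ := hR a
      exact ⟨b, 0, by rw [pow_zero, mul_one, hb]; rfl⟩
    | add x y _ _ hx hy =>
      obtain ⟨b, n, hb⟩ := hx; obtain ⟨c, m, hc⟩ := hy
      refine ⟨b * gB ^ m + c * gB ^ n, n + m, ?_⟩
      simp only [map_add, map_mul, map_pow, ← hb, ← hc]
      ring
    | mul x y _ _ hx hy =>
      obtain ⟨b, n, hb⟩ := hx; obtain ⟨c, m, hc⟩ := hy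
      exact ⟨b * c, n + m, by simp only [map_mul, ← hb, ← hc]; ring⟩
  refine ⟨(injective_iff_map_eq_zero _).2 fun y hy => ?_, fun x => ?_⟩
  · obtain ⟨b, ⟨_, n, rfl⟩, rfl⟩ := IsLocalization.exists_mk'_eq (Submonoid.powers gB) y
    rw [Localization.awayMap, IsLocalization.Away.map, IsLocalization.map_mk',
      IsLocalization.mk'_eq_zero_iff] at hy
    obtain ⟨⟨_, k, rfl⟩, hk⟩ := hy
    exact (IsLocalization.mk'_eq_zero_iff _ _).2 ⟨⟨gB ^ k, k, rfl⟩, hι (by
      simp only [map_mul, map_pow, map_zero]; exact hk)⟩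
  · obtain ⟨b, n, hb⟩ := key x
    refine ⟨IsLocalization.mk' (Localization.Away gB) b (⟨gB ^ n, n, rfl⟩ : Submonoid.powers gB), ?_⟩
    rw [Localization.awayMap, IsLocalization.Away.map, IsLocalization.map_mk', IsLocalization.mk'_eq_iff_eq_mul]
    refine Eq.trans hb.symm ?_
    simp only [map_pow]
    rfl

/-- A separated quasi-finite morphism of finite type to a qcqs scheme is open in a finite one. -/
theorem exists_finite_factor_qcqs {W S : Scheme.{u}} [CompactSpace S] [QuasiSeparatedSpace S] (f : W ⟶ S)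
    [IsSeparated f] [QuasiCompact f] [LocallyOfFiniteType f] [LocallyQuasiFinite f] :
    ∃ (T : Scheme.{u}) (i : W ⟶ T) (π : T ⟶ S), IsOpenImmersion i ∧ IsFinite π ∧ i ≫ π = f := by
  classical
  let N := f.normalization
  let ν : N ⟶ S := f.fromNormalization
  let j : W ⟶ N := f.toNormalization
  have hj : j ≫ ν = f := f.toNormalization_fromNormalization
  haveI : IsOpenImmersion j := inferInstance
  obtain ⟨F, hF⟩ := isCompact_univ.elim_finite_subcover (fun V : S.affineOpens => (V.1 : Set S))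
    (fun V => V.1.2) fun x _ => by
      obtain ⟨_, ⟨V, hV, rfl⟩, hxV, -⟩ := S.isBasis_affineOpens.exists_subset_of_mem_open
        (Set.mem_univ x) isOpen_univ
      exact Set.mem_iUnion.2 ⟨⟨V, hV⟩, hxV⟩
  have hcov : ∀ V : S.affineOpens, ∃ t : Finset Γ(N, ν ⁻¹ᵁ V.1),
      (∀ g ∈ t, N.basicOpen g ≤ j.opensRange) ∧
        ∀ w : W, f w ∈ V.1 → ∃ g ∈ t, j w ∈ N.basicOpen g := by
    intro V
    have hc : IsCompact (f ⁻¹ᵁ V.1 : Set W) := f.isCompact_preimage V.2.isCompact
    have hex : ∀ w : ↥(f ⁻¹ᵁ V.1), ∃ g : Γ(N, ν ⁻¹ᵁ V.1),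
        N.basicOpen g ≤ j.opensRange ∧ j w.1 ∈ N.basicOpen g := fun w => by
      obtain ⟨g, hg, hwg⟩ := (V.2.preimage ν).exists_basicOpen_le (V := j.opensRange)
        ⟨j w.1, w.1, rfl⟩ (show ν (j w.1) ∈ V.1 by rw [← Scheme.Hom.comp_apply, hj]; exact w.2)
      exact ⟨g, hg, hwg⟩
    choose g hg hwg using hex
    obtain ⟨F', hF'⟩ := hc.elim_finite_subcover (fun w => (j ⁻¹ᵁ N.basicOpen (g w) : Set W))
      (fun w => (j ⁻¹ᵁ N.basicOpen (g w)).2) fun w hw => Set.mem_iUnion.2 ⟨⟨w, hw⟩, hwg ⟨w, hw⟩⟩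
    refine ⟨F'.image g, fun x hx => ?_, fun w hw => ?_⟩
    · obtain ⟨w, -, rfl⟩ := Finset.mem_image.1 hx
      exact hg w
    · obtain ⟨w', hw', hw''⟩ := Set.mem_iUnion₂.1 (hF' hw)
      exact ⟨g w', Finset.mem_image_of_mem _ hw', hw''⟩
  choose t ht htcov using hcov
  have hs : ∀ V : S.affineOpens, ∃ s : Finset Γ(N, ν ⁻¹ᵁ V.1), t V ⊆ s ∧
      ∀ (B : Type u) [CommRing B] (ι : B →+* Γ(N, ν ⁻¹ᵁ V.1)), Function.Injective ι →
      (∀ a, (ν.app V.1).hom a ∈ Set.range ι) → (↑s ⊆ Set.range ι) →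
      ∀ gB, ι gB ∈ t V → Function.Bijective (Localization.awayMap ι gB) := fun V => by
    letI := (ν.app V.1).hom.toAlgebra
    refine exists_finset_awayMap Γ(S, V.1) Γ(N, ν ⁻¹ᵁ V.1) (t V) fun g hg => ?_
    let m : Spec (.of (Localization.Away g)) ⟶ N :=
      Spec.map (CommRingCat.ofHom (algebraMap Γ(N, ν ⁻¹ᵁ V.1) (Localization.Away g))) ≫
        (V.2.preimage ν).fromSpec
    have hm : Set.range m ⊆ Set.range j := by
      rintro _ ⟨x, rfl⟩
      refine ht V g hg (?_ : _ ∈ N.basicOpen g)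
      rw [← (V.2.preimage ν).fromSpec_image_basicOpen g]
      exact ⟨_, (PrimeSpectrum.localization_away_comap_range (Localization.Away g) g).le ⟨x, rfl⟩, rfl⟩
    have h : LocallyOfFiniteType (IsOpenImmersion.lift j m hm ≫ f) := inferInstance
    rw [← hj, IsOpenImmersion.lift_fac_assoc, Category.assoc,
      ← IsAffineOpen.SpecMap_appLE_fromSpec ν V.2 (V.2.preimage ν) le_rfl, ← Spec.map_comp_assoc] at h
    haveI := h
    have h' := locallyOfFiniteType_of_comp (Spec.map (ν.appLE V.1 (ν ⁻¹ᵁ V.1) le_rfl ≫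
      CommRingCat.ofHom (algebraMap Γ(N, ν ⁻¹ᵁ V.1) (Localization.Away g)))) V.2.fromSpec
    rw [HasRingHomProperty.Spec_iff (P := @LocallyOfFiniteType), ← Scheme.Hom.app_eq_appLE] at h'
    exact RingHom.finiteType_algebraMap.1 h'
  choose s hts hs' using hs
  let B : RelSpec.QCAlg S := RelSpec.QCAlg.directImage ν
  have hG := QCoh.isQCoh_toModule B
  choose Ns hNs hsN using fun V : F => QCoh.exists_ftOn_contains hG V.1.2
    (QCoh.extStep_qcqs V.1.2.isCompact)
    (show Set Γ(B.toModule, V.1.1) from (↑(s V.1) : Set Γ(N, ν ⁻¹ᵁ V.1.1))) (s V.1).finite_toSet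
  let Nsum := QCoh.sumSub Ns
  have hN : QCoh.FTOn Nsum ⊤ := QCoh.ftOn_sumSub Ns hNs
  let B' := QCohSup92.subAlg B hN
  let φ := QCohSup92.subAlgHom B hN
  let ω : AffAlg.algHoms B'.π ν := ⟨B'.gammaMap ≫ φ.hom, by
    rw [← Category.assoc]
    refine (congrArg (· ≫ φ.hom) B'.π_c_gammaMap).trans ?_
    exact φ.comm⟩
  let q : N ⟶ B'.spec := RelSpecX.ofAlgHom B'.π ν ω
  have hq : q ≫ B'.π = ν := RelSpecX.ofAlgHom_comp B'.π ν ω
  -- the structure morphism is finite
  have hfin : IsFinite B'.π := by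
    rw [isFinite_iff]
    refine ⟨inferInstance, fun U hU => ?_⟩
    haveI := RelSpecX.isIso_gammaAff B' U hU
    have hint : (B'.str.app (op U)).hom.IsIntegral := by
      letI := (B'.str.app (op U)).hom.toAlgebra
      letI := (ν.app U).hom.toAlgebra
      intro b
      let e : B'.presheaf.obj (op U) →ₐ[Γ(S, U)] Γ(N, ν ⁻¹ᵁ U) :=
        { toRingHom := (φ.hom.app (op U)).hom, commutes' := fun _ => rfl }
      exact (isIntegral_algHom_iff e Subtype.val_injective).1
        ((IsIntegralHom.isIntegral_app (f := ν) U hU) (e b))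
    have hstr : (B'.str.app (op U)).hom.Finite :=
      RingHom.IsIntegral.to_finite hint (QCohSup92.subAlg_finiteType B hN ⟨U, hU⟩)
    rw [show B'.π.app U = B'.str.app (op U) ≫ inv (B'.gammaAff U hU) by
      rw [IsIso.eq_comp_inv]; exact B'.π_app_gammaAff U hU]
    exact RingHom.Finite.comp (RingHom.Finite.of_surjective _
      ((ConcreteCategory.bijective_of_isIso (inv (B'.gammaAff U hU))).2)) hstr
  -- the basic opens
  have hloc : ∀ (V : F) (g : Γ(N, ν ⁻¹ᵁ V.1.1)), g ∈ t V.1 →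
      ∃ D : B'.spec.Opens, q ⁻¹ᵁ D = N.basicOpen g ∧ IsOpenImmersion ((N.basicOpen g).ι ≫ q) := by
    intro V g hg
    let R' := Γ(B'.spec, B'.π ⁻¹ᵁ V.1.1)
    let A := Γ(N, ν ⁻¹ᵁ V.1.1)
    let ι : R' ⟶ A := ω.1.app (op V.1.1)
    have hι : ι = B'.gammaAff V.1.1 V.1.2 ≫ φ.hom.app (op V.1.1) :=
      congrArg (· ≫ φ.hom.app (op V.1.1)) (B'.gammaMap_app V.1.1 V.1.2)
    haveI := RelSpecX.isIso_gammaAff B' V.1.1 V.1.2
    have hinj : Function.Injective ι := by
      rw [hι]
      exact Subtype.val_injective.comp (ConcreteCategory.bijective_of_isIso (B'.gammaAff V.1.1 V.1.2)).1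
    have hmem : ∀ b : B'.presheaf.obj (op V.1.1), b.1 ∈ Set.range ι := fun b => by
      obtain ⟨x, hx⟩ := (ConcreteCategory.bijective_of_isIso (B'.gammaAff V.1.1 V.1.2)).2 b
      exact ⟨x, by rw [hι]; exact congrArg Subtype.val hx⟩
    have hsub : ∀ a ∈ s V.1, a ∈ Set.range ι := fun a ha =>
      hmem ⟨a, QCohSup92.genRing_le_locRing B Nsum V.1.1
        (Subring.subset_closure (Or.inr (QCoh.le_sumSub Ns V _ (hsN V ha))))⟩
    obtain ⟨g', hg'⟩ := hsub g (hts _ hg)
    have hbij := hs' V.1 R' ι.hom hinj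
      (fun a => hmem ((B'.str.app (op V.1.1)).hom a)) hsub g'
      (show ι.hom g' ∈ t V.1 from hg'.symm ▸ hg)
    have happ : q.appLE (B'.π ⁻¹ᵁ V.1.1) (ν ⁻¹ᵁ V.1.1)
        (RelSpecX.preimage_eq B'.π ν q hq V.1.1).le = ι :=
      RelSpecX.appLE_ofAlgHom B'.π ν ω V.1 _
    refine ⟨B'.spec.basicOpen g', ?_, ?_⟩
    · subst hg'
      rw [Scheme.preimage_basicOpen, ← happ, Scheme.Hom.appLE]
      exact (N.basicOpen_res_eq _ (eqToHom (congrArg op (RelSpecX.preimage_eq B'.π ν q hq V.1.1).symm))).symm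
    · have hV' := V.1.2.preimage ν
      have hT := V.1.2.preimage B'.π
      haveI : IsIso (CommRingCat.ofHom (Localization.awayMap ι.hom g')) :=
        (ConcreteCategory.isIso_iff_bijective _).2 hbij
      let loc : CommRingCat.of A ⟶ .of (Localization.Away (ι g')) :=
        CommRingCat.ofHom (algebraMap A (Localization.Away (ι g')))
      have hrange : Set.range (Spec.map loc ≫ hV'.fromSpec) = Set.range (N.basicOpen g).ι := by
        rw [Scheme.Hom.comp_base, TopCat.coe_comp, Set.range_comp, Scheme.Opens.range_ι, ← hg',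
          ← hV'.fromSpec_image_basicOpen]
        exact congrArg _ (PrimeSpectrum.localization_away_comap_range (Localization.Away (ι g')) (ι g'))
      haveI : IsOpenImmersion (Spec.map loc) := IsOpenImmersion.of_isLocalization (ι g')
      let e := IsOpenImmersion.isoOfRangeEq (Spec.map loc ≫ hV'.fromSpec) (N.basicOpen g).ι hrange
      rw [show (N.basicOpen g).ι ≫ q = e.inv ≫ Spec.map (CommRingCat.ofHom (Localization.awayMap ι.hom g')) ≫
          Spec.map (CommRingCat.ofHom (algebraMap R' (Localization.Away g'))) ≫ hT.fromSpec from ?_]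
      · haveI : IsOpenImmersion (Spec.map (CommRingCat.ofHom (algebraMap R' (Localization.Away g')))) :=
          IsOpenImmersion.of_isLocalization g'
        infer_instance
      · rw [← cancel_epi e.hom, Iso.hom_inv_id_assoc, IsOpenImmersion.isoOfRangeEq_hom_fac_assoc,
          Category.assoc, ← IsAffineOpen.SpecMap_appLE_fromSpec q hT hV' (RelSpecX.preimage_eq B'.π ν q hq V.1.1).le, happ, ← Spec.map_comp_assoc,
          ← Spec.map_comp_assoc]
        refine congrArg (fun x => Spec.map x ≫ hT.fromSpec) (CommRingCat.hom_ext (RingHom.ext fun x => ?_))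
        simp only [CommRingCat.hom_comp, RingHom.comp_apply, CommRingCat.hom_ofHom, Localization.awayMap,
          IsLocalization.Away.map]
        refine Eq.trans ?_ (IsLocalization.map_eq (S := Localization.Away g')
          (Q := Localization.Away (ι.hom g')) (g := ι.hom) (M := Submonoid.powers g')
          (T := Submonoid.powers (ι.hom g')) (by rw [← Submonoid.map_powers]; exact Submonoid.le_comap_map _) x).symm
        rfl
  choose D hD hDimm using hloc
  let O : B'.spec.Opens := ⨆ (p : Σ V : F, {g // g ∈ t V.1}), D p.1 p.2.1 p.2.2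
  let h : W ⟶ B'.spec := j ≫ q
  have hO : h ⁻¹ᵁ O = ⊤ := by
    refine top_unique fun w _ => ?_
    obtain ⟨V, hV, hwV⟩ := Set.mem_iUnion₂.1 (hF (Set.mem_univ (f w)))
    obtain ⟨g, hg, hwg⟩ := htcov V w hwV
    refine Opens.mem_iSup.2 ⟨⟨⟨V, hV⟩, g, hg⟩, ?_⟩
    have : j w ∈ q ⁻¹ᵁ D ⟨V, hV⟩ g hg := by rw [hD]; exact hwg
    exact this
  haveI : IsOpenImmersion (h ∣_ O) := by
    refine IsZariskiLocalAtTarget.of_iSup_eq_top (P := @IsOpenImmersion)
      (fun p : Σ V : F, {g // g ∈ t V.1} => O.ι ⁻¹ᵁ D p.1 p.2.1 p.2.2) ?_ fun p => ?_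
    · refine top_unique fun x _ => ?_
      obtain ⟨p, hp⟩ := Opens.mem_iSup.1 x.2
      exact Opens.mem_iSup.2 ⟨p, hp⟩
    · obtain ⟨V, g, hg⟩ := p
      refine (MorphismProperty.arrow_mk_iso_iff @IsOpenImmersion
        (morphismRestrictRestrict h O _ ≪≫ morphismRestrictEq h (V := D V g hg) ?_)).2 ?_
      · rw [Scheme.Hom.image_preimage_eq_opensRange_inf, Scheme.Opens.opensRange_ι, inf_eq_right]
        exact le_iSup (fun p : Σ V : F, {g // g ∈ t V.1} => D p.1 p.2.1 p.2.2) ⟨V, g, hg⟩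
      · haveI : IsOpenImmersion ((N.basicOpen g).ι ≫ q) := hDimm V g hg
        have hle : h ⁻¹ᵁ D V g hg ≤ j ⁻¹ᵁ N.basicOpen g := by
          rw [← hD V g hg]; exact le_rfl
        haveI : IsOpenImmersion ((h ∣_ D V g hg) ≫ (D V g hg).ι) := by
          rw [morphismRestrict_ι, show (h ⁻¹ᵁ D V g hg).ι ≫ h =
            W.homOfLE hle ≫ (j ∣_ N.basicOpen g) ≫ (N.basicOpen g).ι ≫ q by
              rw [morphismRestrict_ι_assoc, Scheme.homOfLE_ι_assoc]]
          infer_instance
        exact IsOpenImmersion.of_comp (h ∣_ D V g hg) (D V g hg).ι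
  refine ⟨B'.spec, h, B'.π, ?_, hfin, by rw [Category.assoc, hq, hj]⟩
  have he : h = (W.topIso.inv ≫ (W.isoOfEq hO.symm).hom) ≫ (h ∣_ O) ≫ O.ι := by simp [morphismRestrict_ι]
  rw [he]
  infer_instance

end Groth.Agent.LocImmLib
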