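import Groth.Agent.LocImmLib.Factor

/-!
# Nayak's factorisation theorem
-/

universe u

open CategoryTheory CategoryTheory.Limits AlgebraicGeometry Topology TopologicalSpace

namespace Groth.Agent.LocImmLib

variable {X S : Scheme.{u}}

/-- `f` is a localizing immersion followed by a separated morphism of finite type. -/
def Factors (f : X ⟶ S) : Prop :=
  ∃ (Y : Scheme.{u}) (k : X ⟶ Y) (p : Y ⟶ S), IsNoetherian Y ∧ LI k ∧ IsSeparated p ∧ LocallyOfFiniteType p ∧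
    QuasiCompact p ∧ k ≫ p = f

theorem exists_finite_closed_cover (P : Scheme.{u}) [IsNoetherian P] {D : Set P} (hD : IsClosed D) :
    ∃ G : Set P, G.Finite ∧ G ⊆ D ∧ D ⊆ ⋃ ζ ∈ G, closure {ζ} := by
  obtain ⟨T, hTf, hTc, hTi, hD'⟩ := NoetherianSpace.exists_finite_set_isClosed_irreducible hD
  choose gen hgen using fun (s : Set P) (hs : s ∈ T) =>
    (⟨_, (hTi s hs).isGenericPoint_genericPoint (hTc s hs)⟩ : ∃ ζ, IsGenericPoint ζ s)
  refine ⟨⋃ (s : Set P) (hs : s ∈ T), {gen s hs}, hTf.biUnion' fun s _ => Set.finite_singleton _, ?_, ?_⟩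
  · intro ζ hζ
    obtain ⟨s, hs, rfl⟩ := Set.mem_iUnion₂.1 hζ
    rw [hD']; exact ⟨s, hs, (hgen s hs).mem⟩
  · rw [hD']; rintro z ⟨s, hs, hz⟩
    exact Set.mem_iUnion₂.2 ⟨gen s hs, Set.mem_iUnion₂.2 ⟨s, hs, rfl⟩, by rw [(hgen s hs).def]; exact hz⟩

theorem noetherian_opens [IsNoetherian X] (U : X.Opens) : IsNoetherian U :=
  haveI : CompactSpace U := isCompact_iff_compactSpace.1 (NoetherianSpace.isCompact _)
  ⟨⟩

theorem factors_union [IsNoetherian X] [IsNoetherian S] (f : X ⟶ S) [IsSeparated f]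
    (U₁ U₂ : X.Opens) (hU : U₁ ⊔ U₂ = ⊤) {Y₁ Y₂ : Scheme.{u}} [IsNoetherian Y₁] [IsNoetherian Y₂]
    {k₁ : (U₁ : Scheme.{u}) ⟶ Y₁} {k₂ : (U₂ : Scheme.{u}) ⟶ Y₂} {p₁ : Y₁ ⟶ S} {p₂ : Y₂ ⟶ S}
    (hk₁ : LI k₁) (hk₂ : LI k₂) [IsSeparated p₁] [IsSeparated p₂] [LocallyOfFiniteType p₁]
    [LocallyOfFiniteType p₂] [QuasiCompact p₁] [QuasiCompact p₂]
    (h₁ : k₁ ≫ p₁ = U₁.ι ≫ f) (h₂ : k₂ ≫ p₂ = U₂.ι ≫ f) : Factors f := by
  haveI := hk₁.isPreimmersion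
  haveI := hk₂.isPreimmersion
  haveI := noetherian_opens (U₁ ⊓ U₂)
  let a₁ := X.homOfLE (inf_le_left : U₁ ⊓ U₂ ≤ U₁)
  let a₂ := X.homOfLE (inf_le_right : U₁ ⊓ U₂ ≤ U₂)
  obtain ⟨O₁, hO₁, hO₁'⟩ := k₁.isEmbedding.isInducing.isOpen_iff.1 (U₁.ι ⁻¹ᵁ U₂).isOpen
  obtain ⟨O₂, hO₂, hO₂'⟩ := k₂.isEmbedding.isInducing.isOpen_iff.1 (U₂.ι ⁻¹ᵁ U₁).isOpen
  let P₁ : Y₁.Opens := ⟨O₁, hO₁⟩
  let P₂ : Y₂.Opens := ⟨O₂, hO₂⟩
  haveI := noetherian_opens P₁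
  haveI := noetherian_opens P₂
  have hr₁ : Set.range (a₁ ≫ k₁) ⊆ Set.range P₁.ι := by
    rintro _ ⟨x, rfl⟩
    rw [Scheme.Opens.range_ι]
    show a₁ x ∈ k₁ ⁻¹' O₁
    rw [hO₁']
    show U₁.ι (a₁ x) ∈ U₂
    rw [← Scheme.Hom.comp_apply, Scheme.homOfLE_ι]; exact x.2.2
  have hr₂ : Set.range (a₂ ≫ k₂) ⊆ Set.range P₂.ι := by
    rintro _ ⟨x, rfl⟩
    rw [Scheme.Opens.range_ι]
    show a₂ x ∈ k₂ ⁻¹' O₂
    rw [hO₂']
    show U₂.ι (a₂ x) ∈ U₁
    rw [← Scheme.Hom.comp_apply, Scheme.homOfLE_ι]; exact x.2.1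
  let c₁ := IsOpenImmersion.lift P₁.ι (a₁ ≫ k₁) hr₁
  let c₂ := IsOpenImmersion.lift P₂.ι (a₂ ≫ k₂) hr₂
  have hc₁ : c₁ ≫ P₁.ι = a₁ ≫ k₁ := IsOpenImmersion.lift_fac _ _ _
  have hc₂ : c₂ ≫ P₂.ι = a₂ ≫ k₂ := IsOpenImmersion.lift_fac _ _ _
  haveI : IsSeparated (P₁.ι ≫ p₁) := inferInstance
  haveI : QuasiCompact (P₂.ι ≫ p₂) := inferInstance
  have hc : c₁ ≫ P₁.ι ≫ p₁ = c₂ ≫ P₂.ι ≫ p₂ := by
    rw [reassoc_of% hc₁, reassoc_of% hc₂, h₁, h₂, Scheme.homOfLE_ι_assoc, Scheme.homOfLE_ι_assoc]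
  obtain ⟨W, kW, g₁, g₂, hkW, hg₁, hg₂, hg, hkg₁, hkg₂, hW, hWmax⟩ := exists_common (π₁ := P₁.ι ≫ p₁)
    (π₂ := P₂.ι ≫ p₂) (LI.of_comp_mono (g := P₁.ι) (by rw [hc₁]; exact (LI.of_isOpenImmersion a₁).comp hk₁))
    (LI.of_comp_mono (g := P₂.ι) (by rw [hc₂]; exact (LI.of_isOpenImmersion a₂).comp hk₂)) hc
  let e₁ := g₁ ≫ P₁.ι
  let e₂ := g₂ ≫ P₂.ι
  have he : e₁ ≫ p₁ = e₂ ≫ p₂ := by simpa [e₁, e₂] using hg
  have hke₁ : kW ≫ e₁ = a₁ ≫ k₁ := by simp [e₁, reassoc_of% hkg₁, hc₁]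
  have hke₂ : kW ≫ e₂ = a₂ ≫ k₂ := by simp [e₂, reassoc_of% hkg₂, hc₂]
  let P := pullback p₁ p₂
  let γ : W ⟶ P := pullback.lift e₁ e₂ he
  haveI : IsOpenImmersion e₁ := inferInstanceAs (IsOpenImmersion (_ ≫ _))
  haveI : IsImmersion (γ ≫ pullback.fst p₁ p₂) := by rw [pullback.lift_fst]; infer_instance
  haveI : IsImmersion γ := IsImmersion.of_comp γ (pullback.fst p₁ p₂)
  haveI : IsLocallyNoetherian P := LocallyOfFiniteType.isLocallyNoetherian (pullback.fst p₁ p₂)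
  haveI : CompactSpace ↥P := QuasiCompact.compactSpace_of_compactSpace (pullback.fst p₁ p₂)
  haveI : IsNoetherian P := ⟨⟩
  let R : Set P := Set.range γ
  let D : Set P := closure R \ R
  have hD : IsClosed D := by
    have h := γ.isLocallyClosed_range.isOpen_coborder
    rw [coborder] at h
    exact isOpen_compl_iff.1 h
  -- the bad locus avoids the image
  have hbad : ∀ z ∈ D, (pullback.fst p₁ p₂) z ∈ Set.range k₁ → (pullback.snd p₁ p₂) z ∉ Set.range k₂ := by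
    rintro z ⟨hz, hz'⟩ h1 h2
    let Φ : pullback (U₁.ι ≫ f) (U₂.ι ≫ f) ⟶ P :=
      pullback.map _ _ _ _ k₁ k₂ (𝟙 S) (by simp [h₁]) (by simp [h₂])
    haveI : IsPreimmersion Φ :=
      pullback_map_isPreimmersion _ _ _ _ k₁ k₂ (by simp [h₁]) (by simp [h₂])
    obtain ⟨z', rfl⟩ : z ∈ Set.range Φ := by rw [Scheme.Pullback.range_map]; exact ⟨h1, h2⟩
    let δ : ((U₁ ⊓ U₂ : X.Opens) : Scheme.{u}) ⟶ pullback (U₁.ι ≫ f) (U₂.ι ≫ f) :=
      pullback.lift a₁ a₂ (by rw [Scheme.homOfLE_ι_assoc, Scheme.homOfLE_ι_assoc])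
    have hδΦ : δ ≫ Φ = kW ≫ γ := by
      apply pullback.hom_ext
      · rw [Category.assoc, Category.assoc, pullback.lift_fst, pullback.lift_fst, pullback.lift_fst_assoc, hke₁]
      · rw [Category.assoc, Category.assoc, pullback.lift_snd, pullback.lift_snd, pullback.lift_snd_assoc, hke₂]
    obtain ⟨η, hη, hηz⟩ : ∃ η ∈ maxPts W, γ η ⤳ Φ z' := by
      have hC : IsClosed (⋃ η ∈ maxPts W, closure ({γ η} : Set P)) :=
        finite_maxPts.isClosed_biUnion fun _ _ => isClosed_closure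
      have hsub : R ⊆ ⋃ η ∈ maxPts W, closure ({γ η} : Set P) := by
        rintro _ ⟨w, rfl⟩
        obtain ⟨η, hη, hηw⟩ := exists_maxPts_specializes w
        exact Set.mem_iUnion₂.2 ⟨η, hη, specializes_iff_mem_closure.1 (hηw.map γ.continuous)⟩
      obtain ⟨η, hη, h⟩ := Set.mem_iUnion₂.1 (closure_minimal hsub hC hz)
      exact ⟨η, hη, specializes_iff_mem_closure.2 h⟩
    obtain ⟨x, rfl⟩ := hWmax hη
    rw [← Scheme.Hom.comp_apply, ← hδΦ, Scheme.Hom.comp_apply] at hηz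
    have hs : δ x ⤳ z' := Φ.isEmbedding.isInducing.specializes_iff.1 hηz
    let m : pullback (U₁.ι ≫ f) (U₂.ι ≫ f) ⟶ pullback f f :=
      pullback.map _ _ _ _ U₁.ι U₂.ι (𝟙 S) (by simp) (by simp)
    haveI : IsOpenImmersion m := by dsimp only [m]; infer_instance
    have hδm : δ ≫ m = (U₁ ⊓ U₂).ι ≫ pullback.diagonal f := by
      apply pullback.hom_ext
      · rw [Category.assoc, Category.assoc, pullback.lift_fst, pullback.diagonal_fst, Category.comp_id,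
          pullback.lift_fst_assoc, Scheme.homOfLE_ι]
      · rw [Category.assoc, Category.assoc, pullback.lift_snd, pullback.diagonal_snd, Category.comp_id,
          pullback.lift_snd_assoc, Scheme.homOfLE_ι]
    obtain ⟨y, hy⟩ : m z' ∈ Set.range (pullback.diagonal f) := by
      refine (hs.map m.continuous).mem_closed (pullback.diagonal f).isClosedEmbedding.isClosed_range ?_
      exact ⟨(U₁ ⊓ U₂).ι x, by rw [← Scheme.Hom.comp_apply, ← hδm, Scheme.Hom.comp_apply]⟩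
    have hy₁ : y = U₁.ι ((pullback.fst (U₁.ι ≫ f) (U₂.ι ≫ f)) z') := by
      rw [← Scheme.Hom.comp_apply, ← show m ≫ pullback.fst f f = _ from pullback.lift_fst _ _ _,
        Scheme.Hom.comp_apply, ← hy, ← Scheme.Hom.comp_apply, pullback.diagonal_fst]; rfl
    have hy₂ : y = U₂.ι ((pullback.snd (U₁.ι ≫ f) (U₂.ι ≫ f)) z') := by
      rw [← Scheme.Hom.comp_apply, ← show m ≫ pullback.snd f f = _ from pullback.lift_snd _ _ _,
        Scheme.Hom.comp_apply, ← hy, ← Scheme.Hom.comp_apply, pullback.diagonal_snd]; rfl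
    have hyU : y ∈ U₁ ⊓ U₂ := ⟨hy₁ ▸ Subtype.prop _, hy₂ ▸ Subtype.prop _⟩
    let yy : ((U₁ ⊓ U₂ : X.Opens) : Scheme.{u}) := ⟨y, hyU⟩
    refine hz' ⟨kW yy, ?_⟩
    rw [← Scheme.Hom.comp_apply, ← hδΦ, Scheme.Hom.comp_apply]
    refine congrArg Φ (m.isOpenEmbedding.injective ?_)
    rw [← Scheme.Hom.comp_apply, hδm, Scheme.Hom.comp_apply]
    exact hy
  obtain ⟨G, hGf, hGD, hDG⟩ := exists_finite_closed_cover P hD
  let C₁ : Set Y₁ := ⋃ ζ ∈ {ζ ∈ G | (pullback.fst p₁ p₂) ζ ∉ Set.range k₁}, closure {(pullback.fst p₁ p₂) ζ}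
  let C₂ : Set Y₂ := ⋃ ζ ∈ {ζ ∈ G | (pullback.fst p₁ p₂) ζ ∈ Set.range k₁}, closure {(pullback.snd p₁ p₂) ζ}
  have hC₁ : IsClosed C₁ := (hGf.sep _).isClosed_biUnion fun _ _ => isClosed_closure
  have hC₂ : IsClosed C₂ := (hGf.sep _).isClosed_biUnion fun _ _ => isClosed_closure
  let V₁ : Y₁.Opens := ⟨C₁ᶜ, hC₁.isOpen_compl⟩
  let V₂ : Y₂.Opens := ⟨C₂ᶜ, hC₂.isOpen_compl⟩
  have hk₁V : Set.range k₁ ⊆ Set.range V₁.ι := by
    rw [Scheme.Opens.range_ι]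
    intro y hy hyC
    obtain ⟨ζ, hζ, h⟩ := Set.mem_iUnion₂.1 hyC
    exact hζ.2 (hk₁.stableUnderGeneralization (specializes_iff_mem_closure.2 h) hy)
  have hk₂V : Set.range k₂ ⊆ Set.range V₂.ι := by
    rw [Scheme.Opens.range_ι]
    intro y hy hyC
    obtain ⟨ζ, hζ, h⟩ := Set.mem_iUnion₂.1 hyC
    exact hbad ζ (hGD hζ.1) hζ.2 (hk₂.stableUnderGeneralization (specializes_iff_mem_closure.2 h) hy)
  have havoid : ∀ z ∈ D, (pullback.fst p₁ p₂) z ∈ V₁ → (pullback.snd p₁ p₂) z ∉ V₂ := by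
    intro z hz h1 h2
    obtain ⟨ζ, hζ, hz'⟩ := Set.mem_iUnion₂.1 (hDG hz)
    have hs := specializes_iff_mem_closure.2 hz'
    by_cases hc : (pullback.fst p₁ p₂) ζ ∈ Set.range k₁
    · exact h2 (Set.mem_iUnion₂.2 ⟨ζ, ⟨hζ, hc⟩,
        specializes_iff_mem_closure.1 (hs.map (pullback.snd p₁ p₂).continuous)⟩)
    · exact h1 (Set.mem_iUnion₂.2 ⟨ζ, ⟨hζ, hc⟩,
        specializes_iff_mem_closure.1 (hs.map (pullback.fst p₁ p₂).continuous)⟩)
  let W' : W.Opens := e₁ ⁻¹ᵁ V₁ ⊓ e₂ ⁻¹ᵁ V₂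
  let G₁ : (W' : Scheme.{u}) ⟶ V₁ := IsOpenImmersion.lift V₁.ι (W'.ι ≫ e₁) (by
    rintro _ ⟨w, rfl⟩; rw [Scheme.Opens.range_ι, Scheme.Hom.comp_apply]; exact w.2.1)
  let G₂ : (W' : Scheme.{u}) ⟶ V₂ := IsOpenImmersion.lift V₂.ι (W'.ι ≫ e₂) (by
    rintro _ ⟨w, rfl⟩; rw [Scheme.Opens.range_ι, Scheme.Hom.comp_apply]; exact w.2.2)
  have hG₁ : G₁ ≫ V₁.ι = W'.ι ≫ e₁ := IsOpenImmersion.lift_fac _ _ _
  have hG₂ : G₂ ≫ V₂.ι = W'.ι ≫ e₂ := IsOpenImmersion.lift_fac _ _ _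
  haveI : IsOpenImmersion e₂ := inferInstanceAs (IsOpenImmersion (_ ≫ _))
  haveI : IsOpenImmersion (G₁ ≫ V₁.ι) := by rw [hG₁]; infer_instance
  haveI : IsOpenImmersion G₁ := IsOpenImmersion.of_comp G₁ V₁.ι
  haveI : IsOpenImmersion (G₂ ≫ V₂.ι) := by rw [hG₂]; infer_instance
  haveI : IsOpenImmersion G₂ := IsOpenImmersion.of_comp G₂ V₂.ι
  have hGp : G₁ ≫ V₁.ι ≫ p₁ = G₂ ≫ V₂.ι ≫ p₂ := by
    rw [reassoc_of% hG₁, reassoc_of% hG₂, he]
  have hcl : IsClosed (Set.range (pullback.lift G₁ G₂ hGp)) := by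
    let ι' : pullback (V₁.ι ≫ p₁) (V₂.ι ≫ p₂) ⟶ P :=
      pullback.map _ _ _ _ V₁.ι V₂.ι (𝟙 S) (by simp) (by simp)
    haveI : IsOpenImmersion ι' := by dsimp only [ι']; infer_instance
    have hι1 : ι' ≫ pullback.fst p₁ p₂ = pullback.fst _ _ ≫ V₁.ι := pullback.lift_fst _ _ _
    have hι2 : ι' ≫ pullback.snd p₁ p₂ = pullback.snd _ _ ≫ V₂.ι := pullback.lift_snd _ _ _
    have hfac : pullback.lift G₁ G₂ hGp ≫ ι' = W'.ι ≫ γ := by
      apply pullback.hom_ext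
      · rw [Category.assoc, hι1, pullback.lift_fst_assoc, Category.assoc, pullback.lift_fst, hG₁]
      · rw [Category.assoc, hι2, pullback.lift_snd_assoc, Category.assoc, pullback.lift_snd, hG₂]
    suffices Set.range (pullback.lift G₁ G₂ hGp) = ι' ⁻¹' closure R by
      rw [this]; exact isClosed_closure.preimage ι'.continuous
    ext z
    constructor
    · rintro ⟨w, rfl⟩
      refine subset_closure ⟨W'.ι w, ?_⟩
      rw [← Scheme.Hom.comp_apply, ← Scheme.Hom.comp_apply, hfac]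
    · intro hz
      have m1 : (pullback.fst p₁ p₂) (ι' z) ∈ V₁ := by
        rw [← Scheme.Hom.comp_apply, hι1, Scheme.Hom.comp_apply]; exact Subtype.prop _
      have m2 : (pullback.snd p₁ p₂) (ι' z) ∈ V₂ := by
        rw [← Scheme.Hom.comp_apply, hι2, Scheme.Hom.comp_apply]; exact Subtype.prop _
      obtain ⟨w, hw⟩ : ι' z ∈ R := by
        by_contra hn; exact havoid _ ⟨hz, hn⟩ m1 m2
      have hw' : w ∈ W' := by
        refine ⟨?_, ?_⟩
        · show e₁ w ∈ V₁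
          rw [← pullback.lift_fst e₁ e₂ he, Scheme.Hom.comp_apply]; exact hw.symm ▸ m1
        · show e₂ w ∈ V₂
          rw [← pullback.lift_snd e₁ e₂ he, Scheme.Hom.comp_apply]; exact hw.symm ▸ m2
      let ww : (W' : Scheme.{u}) := ⟨w, hw'⟩
      refine ⟨ww, ι'.isOpenEmbedding.injective ?_⟩
      rw [← Scheme.Hom.comp_apply, hfac, Scheme.Hom.comp_apply]
      exact hw
  haveI := isSeparated_glue G₁ G₂ (V₁.ι ≫ p₁) (V₂.ι ≫ p₂) hGp hcl
  let K₁ := IsOpenImmersion.lift V₁.ι k₁ hk₁V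
  let K₂ := IsOpenImmersion.lift V₂.ι k₂ hk₂V
  have hK₁ : K₁ ≫ V₁.ι = k₁ := IsOpenImmersion.lift_fac _ _ _
  have hK₂ : K₂ ≫ V₂.ι = k₂ := IsOpenImmersion.lift_fac _ _ _
  let i₁ := pushout.inl G₁ G₂
  let i₂ := pushout.inr G₁ G₂
  have hrW : Set.range kW ⊆ Set.range W'.ι := by
    rw [Scheme.Opens.range_ι]
    rintro _ ⟨x, rfl⟩
    refine ⟨?_, ?_⟩
    · show e₁ (kW x) ∈ V₁
      rw [← Scheme.Hom.comp_apply, hke₁, ← hK₁, ← Category.assoc, Scheme.Hom.comp_apply]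
      exact Subtype.prop _
    · show e₂ (kW x) ∈ V₂
      rw [← Scheme.Hom.comp_apply, hke₂, ← hK₂, ← Category.assoc, Scheme.Hom.comp_apply]
      exact Subtype.prop _
  let kW' := IsOpenImmersion.lift W'.ι kW hrW
  have hkW' : kW' ≫ W'.ι = kW := IsOpenImmersion.lift_fac _ _ _
  have hagree : a₁ ≫ K₁ ≫ i₁ = a₂ ≫ K₂ ≫ i₂ := by
    have x1 : a₁ ≫ K₁ = kW' ≫ G₁ := by
      rw [← cancel_mono V₁.ι, Category.assoc, hK₁, Category.assoc, hG₁, reassoc_of% hkW', hke₁]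
    have x2 : a₂ ≫ K₂ = kW' ≫ G₂ := by
      rw [← cancel_mono V₂.ι, Category.assoc, hK₂, Category.assoc, hG₂, reassoc_of% hkW', hke₂]
    rw [reassoc_of% x1, reassoc_of% x2, pushout.condition]
  haveI hp : IsPushout a₁ a₂ U₁.ι U₂.ι := isPushout_opens hU
  let k : X ⟶ pushout G₁ G₂ := hp.desc (K₁ ≫ i₁) (K₂ ≫ i₂) hagree
  have hk1 : U₁.ι ≫ k = K₁ ≫ i₁ := hp.inl_desc _ _ _
  have hk2 : U₂.ι ≫ k = K₂ ≫ i₂ := hp.inr_desc _ _ _
  have hl₁ : LI (U₁.ι ≫ k) := by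
    rw [hk1]
    exact (LI.of_comp_mono (g := V₁.ι) (by rw [hK₁]; exact hk₁)).comp (LI.of_isOpenImmersion _)
  have hl₂ : LI (U₂.ι ≫ k) := by
    rw [hk2]
    exact (LI.of_comp_mono (g := V₂.ι) (by rw [hK₂]; exact hk₂)).comp (LI.of_isOpenImmersion _)
  let p := pushout.desc (V₁.ι ≫ p₁) (V₂.ι ≫ p₂) hGp
  haveI : IsZariskiLocalAtSource @LocallyOfFiniteType.{u} := HasRingHomProperty.instIsZariskiLocalAtSource
  haveI : LocallyOfFiniteType p := by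
    refine IsZariskiLocalAtSource.of_openCover (P := @LocallyOfFiniteType)
      (Scheme.openCoverOfIsOpenCover _ (![i₁.opensRange, i₂.opensRange]) (.mk <| top_unique fun x _ => ?_)) ?_
    · exact Opens.mem_iSup.2 ((glue_surjective G₁ G₂ x).elim (fun h => ⟨0, h⟩) fun h => ⟨1, h⟩)
    · have q1 : LocallyOfFiniteType (i₁.opensRange.ι ≫ p) := by
        rw [show i₁.opensRange.ι ≫ p = i₁.isoOpensRange.inv ≫ V₁.ι ≫ p₁ by
          rw [← pushout.inl_desc (V₁.ι ≫ p₁) (V₂.ι ≫ p₂) hGp]; simp [p, i₁]]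
        infer_instance
      have q2 : LocallyOfFiniteType (i₂.opensRange.ι ≫ p) := by
        rw [show i₂.opensRange.ι ≫ p = i₂.isoOpensRange.inv ≫ V₂.ι ≫ p₂ by
          rw [← pushout.inr_desc (V₁.ι ≫ p₁) (V₂.ι ≫ p₂) hGp]; simp [p, i₂]]
        infer_instance
      intro i
      match i with
      | ⟨0, _⟩ => exact q1
      | ⟨1, _⟩ => exact q2
  haveI := noetherian_opens V₁
  haveI := noetherian_opens V₂
  haveI : IsLocallyNoetherian (pushout G₁ G₂) := LocallyOfFiniteType.isLocallyNoetherian p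
  haveI : CompactSpace ↥(pushout G₁ G₂) := by
    refine ⟨?_⟩
    have : (Set.univ : Set ↥(pushout G₁ G₂)) = Set.range i₁ ∪ Set.range i₂ :=
      (Set.eq_univ_of_forall fun x => glue_surjective G₁ G₂ x).symm
    rw [this]
    exact (isCompact_range i₁.continuous).union (isCompact_range i₂.continuous)
  haveI : IsNoetherian (pushout G₁ G₂) := ⟨⟩
  refine ⟨_, k, p, inferInstance, LI.of_isLocImmersion ⟨isLocalizing_of_local fun x => ?_, ?_⟩,
    inferInstance, inferInstance, inferInstance, ?_⟩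
  · rcases (show x ∈ U₁ ⊔ U₂ by rw [hU]; trivial) with h | h
    · exact ⟨U₁, h, hl₁⟩
    · exact ⟨U₂, h, hl₂⟩
  · have same : ∀ {U : X.Opens}, LI (U.ι ≫ k) → ∀ x y, x ∈ U → y ∈ U → k x = k y → x = y := by
      intro U hl x y hx hy e
      exact congrArg Subtype.val (hl.isPreimmersion.isEmbedding.injective (a₁ := ⟨x, hx⟩) (a₂ := ⟨y, hy⟩)
        (by exact e))
    have cross : ∀ (x : (U₁ : Scheme.{u})) (y : (U₂ : Scheme.{u})), k (U₁.ι x) = k (U₂.ι y) → U₁.ι x ∈ U₂ := by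
      intro x y e
      rw [← Scheme.Hom.comp_apply, ← Scheme.Hom.comp_apply, hk1, hk2] at e
      obtain ⟨v, hv, -⟩ := glue_eq_iff G₁ G₂ (a := K₁ x) (b := K₂ y) e
      have hx : k₁ x ∈ O₁ := by
        rw [← hK₁, Scheme.Hom.comp_apply, ← hv, ← Scheme.Hom.comp_apply, hG₁]
        show (P₁.ι (g₁ (W'.ι v))) ∈ O₁
        exact Subtype.prop _
      have hx' : x ∈ k₁ ⁻¹' O₁ := hx
      rw [hO₁'] at hx'
      exact hx'
    intro x y e
    rcases (show x ∈ U₁ ⊔ U₂ by rw [hU]; trivial) with hx | hx <;>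
      rcases (show y ∈ U₁ ⊔ U₂ by rw [hU]; trivial) with hy | hy
    · exact same hl₁ x y hx hy e
    · exact same hl₂ x y (cross ⟨x, hx⟩ ⟨y, hy⟩ e) hy e
    · exact same hl₂ x y hx (cross ⟨y, hy⟩ ⟨x, hx⟩ e.symm) e
    · exact same hl₂ x y hx hy e
  · refine hp.hom_ext ?_ ?_
    · rw [reassoc_of% hk1, pushout.inl_desc, ← Category.assoc, hK₁, h₁]
    · rw [reassoc_of% hk2, pushout.inr_desc, ← Category.assoc, hK₂, h₂]

theorem factors_affine [IsNoetherian X] [IsNoetherian S] (f : X ⟶ S) [EssFT.LocallyEssFiniteType f] (x : X) :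
    ∃ V : X.Opens, x ∈ V ∧ Factors (V.ι ≫ f) := by
  obtain ⟨⟨U, hU'⟩, ⟨V, hV'⟩, hxV, e, hφ⟩ := EssFT.LocallyEssFiniteType.exists_appLE_essFiniteType (f := f) x
  have hU : IsAffineOpen U := hU'
  have hV : IsAffineOpen V := hV'
  let φ := f.appLE U V e
  letI := φ.hom.toAlgebra
  haveI : Algebra.EssFiniteType Γ(S, U) Γ(X, V) := hφ
  haveI : IsNoetherianRing Γ(S, U) := IsLocallyNoetherian.component_noetherian ⟨U, hU⟩
  let C := Algebra.EssFiniteType.subalgebra Γ(S, U) Γ(X, V)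
  haveI : IsNoetherianRing C := Algebra.FiniteType.isNoetherianRing Γ(S, U) C
  let a : Γ(S, U) ⟶ CommRingCat.of C := CommRingCat.ofHom (algebraMap _ _)
  let b : CommRingCat.of C ⟶ Γ(X, V) := CommRingCat.ofHom (algebraMap C Γ(X, V))
  have hab : a ≫ b = φ := by
    ext r; exact (IsScalarTower.algebraMap_apply Γ(S, U) C Γ(X, V) r).symm
  haveI : LocallyOfFiniteType (Spec.map a) :=
    (HasRingHomProperty.Spec_iff (P := @LocallyOfFiniteType)).2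
      (RingHom.finiteType_algebraMap.2 inferInstance)
  refine ⟨V, hxV, Spec (CommRingCat.of C), hV.isoSpec.hom ≫ Spec.map b, Spec.map a ≫ hU.fromSpec,
    inferInstance, LI.iso_comp _ (LI.specMap ⟨_, Algebra.EssFiniteType.isLocalization _ _⟩), ?_,
    inferInstance, quasiCompact_of_noetherianSpace_source _, ?_⟩
  · infer_instance
  · rw [Category.assoc, ← Spec.map_comp_assoc, hab, hU.SpecMap_appLE_fromSpec f hV e]
    exact Iso.hom_inv_id_assoc hV.isoSpec (V.ι ≫ f)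

theorem factors [IsNoetherian X] [IsNoetherian S] (f : X ⟶ S) [IsSeparated f] [EssFT.LocallyEssFiniteType f] :
    Factors f := by
  choose V hxV hV using factors_affine f
  obtain ⟨t, ht⟩ := (isCompact_univ : IsCompact (Set.univ : Set X)).elim_finite_subcover (fun x => (V x : Set X))
    (fun x => (V x).isOpen) fun x _ => Set.mem_iUnion.2 ⟨x, hxV x⟩
  have main : ∀ s : Finset X, Factors ((s.sup V).ι ≫ f) := by
    classical
    intro s
    induction s using Finset.induction with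
    | empty =>
      rw [Finset.sup_empty]
      haveI : IsEmpty ((⊥ : X.Opens) : Scheme.{u}) := ⟨fun x => x.2.elim⟩
      refine ⟨S, (⊥ : X.Opens).ι ≫ f, 𝟙 S, inferInstance, fun x => isEmptyElim x, inferInstance, inferInstance,
        inferInstance, Category.comp_id _⟩
    | insert x s _ ih =>
      rw [Finset.sup_insert]
      let U := V x ⊔ s.sup V
      haveI := noetherian_opens U
      have key : ∀ {A : X.Opens} (hA : A ≤ U), Factors (A.ι ≫ f) →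
          Factors ((U.ι ⁻¹ᵁ A).ι ≫ U.ι ≫ f) := by
        rintro A hA ⟨Y, k, p, hY, hk, h1, h2, h3, h4⟩
        refine ⟨Y, (U.ι ∣_ A) ≫ k, p, hY, ?_, h1, h2, h3, ?_⟩
        · exact (LI.of_isOpenImmersion _).comp hk
        · rw [Category.assoc, h4, morphismRestrict_ι_assoc]
      obtain ⟨Y₁, k₁, p₁, hY₁, hk₁, _, _, _, h₁⟩ := key le_sup_left (hV x)
      obtain ⟨Y₂, k₂, p₂, hY₂, hk₂, _, _, _, h₂⟩ := key le_sup_right ih
      refine factors_union (U.ι ≫ f) (U.ι ⁻¹ᵁ V x) (U.ι ⁻¹ᵁ s.sup V) ?_ hk₁ hk₂ h₁ h₂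
      rw [← Scheme.Hom.preimage_sup]
      exact U.ι_preimage_self
  obtain ⟨Y, k, p, hY, hk, h1, h2, h3, h4⟩ := main t
  have htop : t.sup V = ⊤ := top_unique fun x _ => by
    obtain ⟨i, hi, hxi⟩ := Set.mem_iUnion₂.1 (ht (Set.mem_univ x))
    exact (Finset.le_sup hi : V i ≤ t.sup V) hxi
  let e : X ⟶ ((t.sup V : X.Opens) : Scheme.{u}) := X.topIso.inv ≫ (X.isoOfEq htop.symm).hom
  refine ⟨Y, e ≫ k, p, hY, LI.iso_comp _ hk, h1, h2, h3, ?_⟩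
  rw [Category.assoc, h4]
  simp [e]

end Groth.Agent.LocImmLib
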