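import Groth.Agent.LocImmLib.Basic
import Groth.Agent.S18203
import Groth.Agent.HTopCov.AlmostBlowUp
import Groth.Prelude.Def_EssFT
import Mathlib.AlgebraicGeometry.Noetherian
import Mathlib.AlgebraicGeometry.Morphisms.FinitePresentation
import Mathlib.AlgebraicGeometry.Morphisms.SchemeTheoreticallyDominant

/-!
# Localizing immersions of noetherian schemes
-/

universe u

open CategoryTheory CategoryTheory.Limits AlgebraicGeometry Topology TopologicalSpace

namespace Groth.Agent.LocImmLib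

variable {X Y Z : Scheme.{u}} {f : X ⟶ Y}

/-- The maximal points. -/
def maxPts (X : Scheme.{u}) : Set X := {x : X | ∀ x' : X, x' ⤳ x → x' = x}

theorem exists_maxPts_specializes (x : X) : ∃ η ∈ maxPts X, η ⤳ x := by
  have hi : IsIrreducible (irreducibleComponent x) := isIrreducible_irreducibleComponent
  have hg := hi.isGenericPoint_genericPoint isClosed_irreducibleComponent
  refine ⟨_, fun x' hx' => ?_, hg.specializes mem_irreducibleComponent⟩
  have h1 : irreducibleComponent x ⊆ closure {x'} := by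
    rw [← hg.def]; exact hx'.closure_subset
  have h2 : closure ({x'} : Set X) = irreducibleComponent x :=
    (irreducibleComponent_mem_irreducibleComponents x).eq_of_le isIrreducible_singleton.closure h1 |>.symm
  exact ((isGenericPoint_def.2 h2).eq hg)

theorem finite_maxPts [IsNoetherian X] : (maxPts X).Finite := by
  refine Set.Finite.of_injOn (f := fun x => closure ({x} : Set X)) (t := irreducibleComponents X) ?_ ?_
    finite_irreducibleComponents_of_isNoetherian
  · intro x hx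
    have hi : IsIrreducible (irreducibleComponent x) := isIrreducible_irreducibleComponent
    have hg := hi.isGenericPoint_genericPoint isClosed_irreducibleComponent
    have e := hg.def
    rw [hx _ (hg.specializes mem_irreducibleComponent)] at e
    show closure {x} ∈ _
    rw [e]
    exact irreducibleComponent_mem_irreducibleComponents x
  · intro x hx x' hx' e
    exact (isGenericPoint_def.2 rfl).eq (isGenericPoint_def.2 e.symm)

theorem LI.of_isLocImmersion [IsNoetherian X] [IsNoetherian Y] (hf : LocImm.IsLocImmersion f) : LI f :=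
  .of_isEmbedding hf.1 (S18203.result f hf).1

theorem isOpen_of_isClosed_of_stableUnderGeneralization [IsNoetherian Y] {Z : Set Y} (hZ : IsClosed Z)
    (hg : StableUnderGeneralization Z) : IsOpen Z := by
  rw [← isClosed_compl_iff]
  have : Zᶜ = ⋃ η ∈ maxPts Y \ Z, closure ({η} : Set Y) := by
    ext y
    constructor
    · intro hy
      obtain ⟨η, hη, hηy⟩ := exists_maxPts_specializes y
      exact Set.mem_iUnion₂.2 ⟨η, ⟨hη, fun h => hy (hηy.mem_closed hZ h)⟩, specializes_iff_mem_closure.1 hηy⟩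
    · intro hy hyZ
      obtain ⟨η, hη, h⟩ := Set.mem_iUnion₂.1 hy
      exact hη.2 (hg (specializes_iff_mem_closure.2 h) hyZ)
  rw [this]
  exact (finite_maxPts.subset Set.sdiff_subset).isClosed_biUnion fun _ _ => isClosed_closure

theorem LI.comap_map (hf : LI f) [QuasiCompact f] (I : X.IdealSheafData) : (I.map f).comap f = I := by
  choose V hxV hV using hf
  refine Scheme.IdealSheafData.ext_of_iSup_eq_top (fun x => ⟨f ⁻¹ᵁ V x, (hV x).2.1⟩)
    (top_unique fun x _ => Opens.mem_iSup.2 ⟨x, hxV x⟩) fun x => ?_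
  have hφ := (isLocHom_iff _).1 (hV x).2.2
  have hm : (I.map f).ideal ⟨V x, (hV x).1⟩ = (I.ideal ⟨f ⁻¹ᵁ V x, (hV x).2.1⟩).comap (f.app (V x)).hom := by
    rw [Scheme.IdealSheafData.map, Scheme.Hom.ker_apply, Scheme.Hom.comp_app]
    erw [← RingHom.comap_ker]
    exact congrArg _ (Scheme.IdealSheafData.ker_subschemeι_app I ⟨f ⁻¹ᵁ V x, (hV x).2.1⟩)
  rw [HTopCov.ideal_comap_appLE f (I.map f) ⟨V x, (hV x).1⟩ ⟨f ⁻¹ᵁ V x, (hV x).2.1⟩ le_rfl, hm,
    ← Scheme.Hom.app_eq_appLE]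
  refine le_antisymm Ideal.map_comap_le fun z hz => ?_
  obtain ⟨a, s, hs, e⟩ := hφ.1 z
  have hz' : z = (f.app (V x)).hom a * ↑(hs.unit⁻¹) := (Units.eq_mul_inv_iff_mul_eq _).2 e
  rw [hz']
  refine Ideal.mul_mem_right _ _ (Ideal.mem_map_of_mem _ ?_)
  rw [Ideal.mem_comap, ← e]; exact Ideal.mul_mem_right _ _ hz

theorem exists_LI_restrict (hf : LocImm.IsLocalizing f) (x : X) :
    ∃ W : X.Opens, x ∈ W ∧ LI (W.ι ≫ f) := by
  obtain ⟨⟨U, hU⟩, ⟨V, hV⟩, hxV, e, hφ⟩ := hf x
  have hU : IsAffineOpen U := hU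
  have hV : IsAffineOpen V := hV
  refine ⟨V, hxV, ?_⟩
  have : V.ι = hV.isoSpec.hom ≫ hV.fromSpec := (Iso.hom_inv_id_assoc hV.isoSpec V.ι).symm
  rw [this, Category.assoc, ← hU.SpecMap_appLE_fromSpec f hV e]
  exact LI.iso_comp _ ((LI.specMap hφ).comp (LI.of_isOpenImmersion _))

theorem isLocalizing_of_local (h : ∀ x : X, ∃ W : X.Opens, x ∈ W ∧ LI (W.ι ≫ f)) :
    LocImm.IsLocalizing f := by
  intro x
  obtain ⟨W, hxW, hW⟩ := h x
  obtain ⟨⟨U, hU⟩, ⟨V, hV⟩, hxV, e, hφ⟩ := hW.isLocImmersion.1 ⟨x, hxW⟩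
  have e' : W.ι ''ᵁ V ≤ f ⁻¹ᵁ U := by
    rintro _ ⟨v, hv, rfl⟩
    exact e hv
  refine ⟨⟨U, hU⟩, ⟨W.ι ''ᵁ V, hV.image_of_isOpenImmersion _⟩, ⟨_, hxV, rfl⟩, e', ?_⟩
  rw [← Scheme.Hom.appLE_comp_appLE W.ι f U (W.ι ''ᵁ V) V e' (W.ι.preimage_image_eq V).ge,
    CommRingCat.hom_comp] at hφ
  haveI : IsIso (W.ι.appLE (W.ι ''ᵁ V) V (W.ι.preimage_image_eq V).ge) := by
    rw [← Scheme.Hom.appIso_hom']; infer_instance
  have h2 := isLocHom_comp hφ (isLocHom_iso (inv (W.ι.appLE (W.ι ''ᵁ V) V (W.ι.preimage_image_eq V).ge)))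
  rw [← RingHom.comp_assoc, ← CommRingCat.hom_comp, IsIso.hom_inv_id, CommRingCat.hom_id, RingHom.id_comp] at h2
  exact h2

theorem flat_of_isLocalizing (hf : LocImm.IsLocalizing f) : Flat f := by
  choose W hxW hW using exists_LI_restrict hf
  haveI : IsZariskiLocalAtSource @Flat.{u} := HasRingHomProperty.instIsZariskiLocalAtSource
  exact IsZariskiLocalAtSource.of_openCover (P := @Flat) (Scheme.openCoverOfIsOpenCover _ W
    (.mk <| top_unique fun x _ => Opens.mem_iSup.2 ⟨x, hxW x⟩)) fun (x : ↥X) => (hW x).flat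

theorem injective_of_maxPts (hf : LocImm.IsLocalizing f) [IsSeparated f]
    (hmax : Set.InjOn (fun x => f x) (maxPts X)) : Function.Injective f := by
  intro x₁ x₂ e
  obtain ⟨z, hz₁, hz₂⟩ := Scheme.Pullback.exists_preimage_pullback (f := f) (g := f) x₁ x₂ e
  obtain ⟨η, hη, hηz⟩ := exists_maxPts_specializes z
  haveI := flat_of_isLocalizing hf
  have hfst : (pullback.fst f f) η ∈ maxPts X := by
    intro x' hx'
    obtain ⟨η', h1, h2⟩ := Flat.generalizingMap (pullback.fst f f) hx'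
    rw [← h2, hη _ h1]
  have hsnd : (pullback.snd f f) η ∈ maxPts X := by
    intro x' hx'
    obtain ⟨η', h1, h2⟩ := Flat.generalizingMap (pullback.snd f f) hx'
    rw [← h2, hη _ h1]
  have heq : (pullback.fst f f) η = (pullback.snd f f) η :=
    hmax hfst hsnd (show f _ = f _ by rw [← Scheme.Hom.comp_apply, pullback.condition, Scheme.Hom.comp_apply])
  obtain ⟨W, hxW, hW⟩ := exists_LI_restrict hf ((pullback.fst f f) η)
  haveI := hW.isPreimmersion
  let m : pullback (W.ι ≫ f) (W.ι ≫ f) ⟶ pullback f f :=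
    pullback.map _ _ _ _ W.ι W.ι (𝟙 Y) (by simp) (by simp)
  obtain ⟨w, rfl⟩ : η ∈ Set.range m := by
    rw [Scheme.Pullback.range_map]
    exact ⟨by simpa using hxW, by simpa [← heq] using hxW⟩
  have hd : m = (pullback.fst _ _ ≫ W.ι) ≫ pullback.diagonal f := by
    apply pullback.hom_ext
    · rw [Category.assoc, pullback.diagonal_fst, Category.comp_id]
      exact pullback.lift_fst _ _ _
    · rw [Category.assoc, pullback.diagonal_snd, Category.comp_id, fst_eq_snd_of_mono_eq (W.ι ≫ f)]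
      exact pullback.lift_snd _ _ _
  have hmem : z ∈ Set.range (pullback.diagonal f) := by
    refine hηz.mem_closed (pullback.diagonal f).isClosedEmbedding.isClosed_range ?_
    exact ⟨(pullback.fst (W.ι ≫ f) (W.ι ≫ f) ≫ W.ι) w, by rw [← Scheme.Hom.comp_apply, ← hd]⟩
  obtain ⟨v, rfl⟩ := hmem
  rw [← Scheme.Hom.comp_apply, pullback.diagonal_fst] at hz₁
  rw [← Scheme.Hom.comp_apply, pullback.diagonal_snd] at hz₂
  exact hz₁.symm.trans hz₂

theorem LI.isOpenImmersion (hf : LI f) [LocallyOfFinitePresentation f] : IsOpenImmersion f := by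
  haveI := hf.flat
  haveI := hf.isPreimmersion
  haveI : ∀ x, IsIso (f.stalkMap x) := hf.isIso_stalkMap
  exact IsOpenImmersion.of_isIso_stalkMap f (.of_isEmbedding_isOpenMap hf.isPreimmersion.isEmbedding f.isOpenMap)

theorem LI.isOpenImmersion' (hf : LI f) [IsLocallyNoetherian Y] [LocallyOfFiniteType f] : IsOpenImmersion f :=
  haveI := LocallyOfFinitePresentation.iff_locallyOfFiniteType.2 ‹LocallyOfFiniteType f›
  hf.isOpenImmersion

theorem exists_LI_nhd [IsLocallyNoetherian Z] (g : Y ⟶ Z) [EssFT.LocallyEssFiniteType g] (y : Y)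
    (h : IsIso (g.stalkMap y)) : ∃ W : Y.Opens, y ∈ W ∧ LI (W.ι ≫ g) := by
  obtain ⟨⟨U, hU'⟩, ⟨V, hV'⟩, hyV, e, hφ⟩ := EssFT.LocallyEssFiniteType.exists_appLE_essFiniteType (f := g) y
  have hU : IsAffineOpen U := hU'
  have hV : IsAffineOpen V := hV'
  haveI : IsNoetherianRing Γ(Z, U) := IsLocallyNoetherian.component_noetherian ⟨U, hU⟩
  obtain ⟨q, rfl⟩ : y ∈ Set.range hV.fromSpec := by rw [hV.range_fromSpec]; exact hyV
  let φ := g.appLE U V e
  letI := φ.hom.toAlgebra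
  haveI : Algebra.EssFiniteType Γ(Z, U) Γ(Y, V) := hφ
  have h1 : IsIso ((Spec.map φ).stalkMap q) := by
    have h2 : IsIso ((hV.fromSpec ≫ g).stalkMap q) := by
      rw [Scheme.Hom.stalkMap_comp]
      exact @IsIso.comp_isIso _ _ _ _ _ _ _ h inferInstance
    rw [← hU.SpecMap_appLE_fromSpec g hV e, Scheme.Hom.stalkMap_comp] at h2
    have hiso : ∀ z, IsIso (hU.fromSpec.stalkMap z) := fun z => inferInstance
    exact @IsIso.of_isIso_comp_left _ _ _ _ _ _ _ (hiso _) h2
  let q' : PrimeSpectrum Γ(Y, V) := q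
  have h3 : IsIso (CommRingCat.ofHom (Localization.localRingHom (q'.asIdeal.comap φ.hom) q'.asIdeal φ.hom rfl)) :=
    ((MorphismProperty.isomorphisms CommRingCat).arrow_mk_iso_iff (Scheme.arrowStalkMapSpecIso φ q)).1 h1
  obtain ⟨t, ht, hloc⟩ := exists_away_isLocHom (A := Γ(Z, U)) (B := Γ(Y, V)) q'.asIdeal
    (@ConcreteCategory.bijective_of_isIso _ _ _ _ _ _ _ _ _ h3)
  let j : Spec (CommRingCat.of (Localization.Away t)) ⟶ Y :=
    Spec.map (CommRingCat.ofHom (algebraMap Γ(Y, V) (Localization.Away t))) ≫ hV.fromSpec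
  haveI : IsOpenImmersion (Spec.map (CommRingCat.ofHom (algebraMap Γ(Y, V) (Localization.Away t)))) :=
    IsOpenImmersion.of_isLocalization t
  haveI : IsOpenImmersion j := inferInstanceAs (IsOpenImmersion (_ ≫ _))
  refine ⟨j.opensRange, ?_, ?_⟩
  · obtain ⟨q', hq'⟩ : q ∈ Set.range (PrimeSpectrum.comap (algebraMap Γ(Y, V) (Localization.Away t))) := by
      rw [PrimeSpectrum.localization_away_comap_range (Localization.Away t) t]; exact ht
    exact ⟨q', by rw [← hq']; exact Scheme.Hom.comp_apply _ _ _⟩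
  · rw [show j.opensRange.ι = j.isoOpensRange.inv ≫ j by simp, Category.assoc]
    refine LI.iso_comp _ ?_
    rw [Category.assoc, ← hU.SpecMap_appLE_fromSpec g hV e, ← Spec.map_comp_assoc]
    refine (LI.specMap ?_).comp (LI.of_isOpenImmersion _)
    exact hloc

theorem LI.ι_comp {g : Y ⟶ Z} {U U' : Y.Opens} (hle : U ≤ U') (h : LI (U'.ι ≫ g)) : LI (U.ι ≫ g) := by
  rw [← Y.homOfLE_ι hle, Category.assoc]
  exact (LI.of_isOpenImmersion _).comp h

/-- Near the image of a localizing immersion lifting a localizing immersion, the lift is one. -/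
theorem exists_open_LI [IsNoetherian Y] [IsNoetherian Z] {f₁ : X ⟶ Y} (g : Y ⟶ Z)
    [EssFT.LocallyEssFiniteType g] [IsSeparated g] (hf₁ : LI f₁) (hf₂ : LI (f₁ ≫ g)) :
    ∃ U : Y.Opens, Set.range f₁ ⊆ (U : Set Y) ∧ (∀ η : U, η ∈ maxPts U → (η : Y) ∈ Set.range f₁) ∧ LI (U.ι ≫ g) := by
  have hiso : ∀ x : X, IsIso (g.stalkMap (f₁ x)) := by
    intro x
    have h2 := hf₂.isIso_stalkMap x
    rw [Scheme.Hom.stalkMap_comp] at h2
    exact @IsIso.of_isIso_comp_right _ _ _ _ _ _ _ (hf₁.isIso_stalkMap x) h2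
  choose W hxW hW using fun x : X => exists_LI_nhd g (f₁ x) (hiso x)
  let U₀ : Y.Opens := ⨆ x, W x
  haveI : CompactSpace U₀ := isCompact_iff_compactSpace.1 (NoetherianSpace.isCompact _)
  haveI : IsNoetherian U₀ := ⟨⟩
  let S : Set Y := U₀.ι '' maxPts U₀ \ Set.range f₁
  have hS : S.Finite := ((finite_maxPts (X := U₀)).image _).subset Set.diff_subset
  let C : Set Y := ⋃ η ∈ S, closure {η}
  have hC : IsClosed C := hS.isClosed_biUnion fun _ _ => isClosed_closure
  let U : Y.Opens := U₀ ⊓ ⟨Cᶜ, hC.isOpen_compl⟩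
  have hfU : Set.range f₁ ⊆ (U : Set Y) := by
    rintro _ ⟨x, rfl⟩
    refine ⟨Opens.mem_iSup.2 ⟨x, hxW x⟩, fun hx => ?_⟩
    obtain ⟨η, hη, hηx⟩ := Set.mem_iUnion₂.1 hx
    exact hη.2 (hf₁.stableUnderGeneralization (specializes_iff_mem_closure.2 hηx) ⟨x, rfl⟩)
  have hmax : ∀ η : U, η ∈ maxPts U → (η : Y) ∈ Set.range f₁ := by
    intro η hη
    by_contra hne
    refine η.2.2 (Set.mem_iUnion₂.2 ⟨(η : Y), ⟨⟨⟨η, η.2.1⟩, fun x' hx' => ?_, rfl⟩, hne⟩, subset_closure rfl⟩)
    have hs : U₀.ι x' ⤳ (η : Y) := hx'.map U₀.ι.continuous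
    have hη' := hη ⟨U₀.ι x', U.isOpen.stableUnderGeneralization hs η.2⟩
      (U.ι.isOpenEmbedding.isEmbedding.isInducing.specializes_iff.1 hs)
    exact U₀.ι.isOpenEmbedding.injective (congrArg Subtype.val hη')
  haveI : CompactSpace U := isCompact_iff_compactSpace.1 (NoetherianSpace.isCompact _)
  haveI : IsNoetherian U := ⟨⟩
  have hloc : LocImm.IsLocalizing (U.ι ≫ g) := by
    refine isLocalizing_of_local fun u => ?_
    obtain ⟨x, hux⟩ := Opens.mem_iSup.1 u.2.1
    refine ⟨U.ι ⁻¹ᵁ W x, hux, ?_⟩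
    rw [← morphismRestrict_ι_assoc]
    exact (LI.of_isOpenImmersion _).comp (hW x)
  refine ⟨U, hfU, hmax, LI.of_isLocImmersion ⟨hloc, injective_of_maxPts hloc ?_⟩⟩
  intro a ha b hb e
  obtain ⟨x, hx⟩ := hmax a ha
  obtain ⟨x', hx'⟩ := hmax b hb
  have hxx : (f₁ ≫ g) x = (f₁ ≫ g) x' := by
    rw [Scheme.Hom.comp_apply, Scheme.Hom.comp_apply, hx, hx']; exact e
  exact Subtype.ext (by rw [← hx, ← hx', hf₂.isPreimmersion.isEmbedding.injective hxx])

end Groth.Agent.LocImmLib
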